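import Cfsg.Agent.Mrg.Omega.NoFF.ThmJ
import Cfsg.Agent.Mrg.Omega.NOThree.Pts
import Cfsg.Agent.Mrg.Omega.NO3S.FarQ.Free.Canon
import Cfsg.Agent.Mrg.Omega.NO3S.FarQ.FOne

-- merged: Cfsg.Agent.Mrg.Omega.NO3S.PB.FTwo
section

section


/-!
# NO-3S, natural lines, the `(R, B)`-frame: (T6), (T7), (F2), (F2'), (STAR)

`PointFTwo.lean` with `PL S P V Z` replaced by `PB S B P V Z` (field automorphisms allowed), `OmQ S V` by `OmB B V`.
-/

set_option autoImplicit false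
set_option linter.unusedSectionVars false

namespace Cfsg.Agent.Omega.NO3S.PT

open Subgroup Cfsg.Agent.Omega.NoFF.Basic
open Cfsg.Agent.Omega.NoFF.ThmJ (EA MaxEA card_sup_mul)
open scoped Pointwise

variable {G : Type*} [Group G]

namespace PB

variable [Finite G] {S : Sylow 2 G} {B P V Z : Subgroup G} (h : PB S B P V Z)
include h

/-! ### The commutator map -/

/-- `s ↦ [s, v]` -/
def dh {v : G} (hv : v ∈ V) : B →* Z where
  toFun s := ⟨s * v * (s : G)⁻¹ * v⁻¹, h.act s s.2 v hv⟩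
  map_one' := by
    apply Subtype.ext
    show (1 : G) * v * (1 : G)⁻¹ * v⁻¹ = 1
    group
  map_mul' s t := by
    apply Subtype.ext
    show (s : G) * t * v * ((s : G) * t)⁻¹ * v⁻¹ = (s * v * (s : G)⁻¹ * v⁻¹) * (t * v * (t : G)⁻¹ * v⁻¹)
    have h1 := h.cen _ (h.act t t.2 v hv) s s.2
    have h2 : (s : G) * t * v * ((s : G) * t)⁻¹ * v⁻¹ =
      (s : G) * (t * v * (t : G)⁻¹ * v⁻¹) * (s : G)⁻¹ * (s * v * (s : G)⁻¹ * v⁻¹) := by group
    rw [h2, h1, mul_inv_cancel_right]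
    exact h.Vcomm (h.ZV (h.act t t.2 v hv)) (h.ZV (h.act s s.2 v hv))

theorem dh_apply {v : G} (hv : v ∈ V) (s : B) : (h.dh hv s : G) = s * v * (s : G)⁻¹ * v⁻¹ := rfl

theorem mem_cent_of {s v : G} (hs : s ∈ B) (hv : v ∈ V) (hvZ : v ∉ Z) (hsv : s * v = v * s) :
    s ∈ centralizer (V : Set G) := by
  rw [mem_centralizer_iff]
  exact fun v' hv' => (h.free s hs v hv hvZ hsv v' hv').symm

theorem dh_eq_one {v : G} (hv : v ∈ V) (hvZ : v ∉ Z) {s : B} :
    h.dh hv s = 1 ↔ (s : G) ∈ centralizer (V : Set G) := by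
  rw [← Subtype.coe_inj, dh_apply, OneMemClass.coe_one, mul_inv_eq_one, mul_inv_eq_iff_eq_mul]
  exact ⟨fun e => h.mem_cent_of s.2 hv hvZ e, fun e => (mem_centralizer_iff.1 e v hv).symm⟩

/-- `|A| ≤ |C_A(V)| |Z|`, with equality only if `[A, v] = Z` -/
theorem card_le {A : Subgroup G} (hA : A ≤ B) {v : G} (hv : v ∈ V) (hvZ : v ∉ Z) :
    Nat.card A = Nat.card (A ⊓ centralizer (V : Set G) : Subgroup G) *
      Nat.card ((h.dh hv).comp (inclusion hA)).range := by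
  have h1 := Subgroup.card_mul_index ((h.dh hv).comp (inclusion hA)).ker
  rw [Subgroup.index_ker] at h1
  rw [← h1]
  congr 1
  refine Nat.card_congr ⟨fun x => ⟨x, ?_⟩, fun x => ⟨⟨x, x.2.1⟩, ?_⟩, fun x => rfl, fun x => rfl⟩
  · refine ⟨(x : A).2, ?_⟩
    exact (h.dh_eq_one hv hvZ (s := inclusion hA x)).1 x.2
  · exact (h.dh_eq_one hv hvZ (s := inclusion hA ⟨x, x.2.1⟩)).2 x.2.2

/-! ### (T6) -/

theorem EA_V : EA V := ⟨fun v hv => mem_centralizer_iff.2 fun w hw => h.Vcomm hw hv,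
  fun v hv => by rw [pow_two]; exact h.Vsq v hv⟩

/-- **(T6)** `Ω₁(Z(C_S(V))) = V` if `J(S)` does not centralise `V`. -/
theorem omQ (hJ : ∃ A : Subgroup G, A ≤ B ∧ MaxEA A ∧ ¬ A ≤ centralizer (V : Set G)) : OmB B V := by
  obtain ⟨A, hAS, hA, hAV⟩ := hJ
  obtain ⟨v, hv, hvZ⟩ := h.exists_out
  set A1 := A ⊓ centralizer (V : Set G) with hA1
  have hAc : ∀ a ∈ A, ∀ b ∈ A, a * b = b * a := fun a ha b hb => (mem_centralizer_iff.1 (hA.comm ha) b hb).symm
  have hCV : ∀ w ∈ V, (∀ a ∈ A, a * w = w * a) → w ∈ Z := by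
    intro w hw hwA
    by_contra hwZ
    exact hAV fun a ha => h.mem_cent_of (hAS ha) hw hwZ (hwA a ha)
  have hEA1 : EA A1 := hA.toEA.mono inf_le_left
  -- lower bound
  have hlow : Nat.card A1 * Nat.card Z ≤ Nat.card A := by
    have hE : EA (A1 ⊔ V) := hEA1.sup h.EA_V inf_le_right
    have h1 := hA.max _ hE
    have h2 : V ≤ normalizer (A1 : Set G) := by
      refine le_trans ?_ (centralizer_le_normalizer _)
      exact comm_symm inf_le_right
    have h3 := card_sup_mul h2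
    have h4 : Nat.card (A1 ⊓ V : Subgroup G) ≤ Nat.card Z := by
      refine Subgroup.card_le_of_le ?_
      rintro w ⟨hw1, hw2⟩
      exact hCV w hw2 fun a ha => hAc a ha w hw1.1
    rw [h.card] at h3
    have h5 : Nat.card A1 * Nat.card Z * Nat.card Z ≤ Nat.card A * Nat.card Z := by
      calc Nat.card A1 * Nat.card Z * Nat.card Z = Nat.card A1 * (Nat.card Z * Nat.card Z) := by ring
        _ = _ := h3.symm
        _ ≤ Nat.card A * Nat.card Z := Nat.mul_le_mul h1 h4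
    exact Nat.le_of_mul_le_mul_right h5 Nat.card_pos
  have hup := h.card_le hAS hv hvZ
  rw [← hA1] at hup
  -- `[A, v] = Z`
  have hrange : Nat.card Z ≤ Nat.card ((h.dh hv).comp (inclusion hAS)).range := by
    rw [hup] at hlow
    exact Nat.le_of_mul_le_mul_left hlow Nat.card_pos
  have htop : ((h.dh hv).comp (inclusion hAS)).range = ⊤ := by
    apply Subgroup.eq_top_of_card_eq
    exact le_antisymm (Subgroup.card_le_card_group _) hrange
  have hcov : ∀ s ∈ B, ∃ a ∈ A, a⁻¹ * s ∈ centralizer (V : Set G) := by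
    intro s hs
    have h1 : h.dh hv ⟨s, hs⟩ ∈ ((h.dh hv).comp (inclusion hAS)).range := by rw [htop]; exact mem_top _
    obtain ⟨a, ha⟩ := h1
    refine ⟨a, a.2, ?_⟩
    have h2 : h.dh hv ((inclusion hAS a)⁻¹ * ⟨s, hs⟩) = 1 := by
      rw [map_mul, map_inv, ← ha]
      exact inv_mul_cancel _
    exact (h.dh_eq_one hv hvZ).1 h2
  -- the group `Y`
  let Y : Subgroup G :=
    { carrier := {y | y ∈ B ∧ y ∈ centralizer (V : Set G) ∧ y * y = 1 ∧
        ∀ s ∈ B, s ∈ centralizer (V : Set G) → s * y = y * s}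
      one_mem' := ⟨one_mem _, one_mem _, one_mul 1, fun s _ _ => by rw [mul_one, one_mul]⟩
      mul_mem' := by
        rintro a b ⟨ha, ha1, ha2, ha3⟩ ⟨hb, hb1, hb2, hb3⟩
        refine ⟨mul_mem ha hb, mul_mem ha1 hb1, ?_, fun s hs hs1 => ?_⟩
        · have h1 := ha3 b hb hb1
          calc a * b * (a * b) = a * (b * a) * b := by group
            _ = a * (a * b) * b := by rw [h1]
            _ = a * a * (b * b) := by group
            _ = 1 := by rw [ha2, hb2, one_mul]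
        · rw [← mul_assoc, ha3 s hs hs1, mul_assoc, hb3 s hs hs1, mul_assoc]
      inv_mem' := by
        rintro a ⟨ha, ha1, ha2, ha3⟩
        have h1 : a⁻¹ = a := inv_eq_of_mul_eq_one_left ha2
        rw [h1]
        exact ⟨ha, ha1, ha2, ha3⟩ }
  have hYA : Y ≤ centralizer (A1 : Set G) := by
    intro y hy
    rw [mem_centralizer_iff]
    exact fun a ha => hy.2.2.2 a (hAS ha.1) ha.2
  have hEY : EA Y := by
    refine ⟨fun y hy => ?_, fun y hy => by rw [pow_two]; exact hy.2.2.1⟩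
    rw [mem_centralizer_iff]
    exact fun y' hy' => hy.2.2.2 y' hy'.1 hy'.2.1
  have hYZ : A1 ⊓ Y ≤ Z := by
    rintro y ⟨hy1, hy2⟩
    refine h.omega y hy2.1 hy2.2.2.1 fun s hs => ?_
    obtain ⟨a, ha, has⟩ := hcov s hs
    have h1 := hy2.2.2.2 _ (mul_mem (inv_mem (hAS ha)) hs) has
    have h2 : s = a * (a⁻¹ * s) := by group
    rw [h2, mul_assoc, h1, ← mul_assoc, hAc a ha y hy1.1, mul_assoc]
  have hYcard : Nat.card Y ≤ Nat.card V := by
    have hE : EA (A1 ⊔ Y) := hEA1.sup hEY (comm_symm hYA)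
    have h1 := hA.max _ hE
    have h3 := card_sup_mul (hYA.trans (centralizer_le_normalizer _))
    have h4 := Subgroup.card_le_of_le hYZ
    have h5 : Nat.card A1 * Nat.card Y ≤ Nat.card A1 * (Nat.card Z * Nat.card Z) := by
      calc Nat.card A1 * Nat.card Y = _ := h3.symm
        _ ≤ Nat.card A * Nat.card Z := Nat.mul_le_mul h1 h4
        _ = Nat.card A1 * Nat.card ((h.dh hv).comp (inclusion hAS)).range * Nat.card Z := by rw [← hup]
        _ ≤ Nat.card A1 * Nat.card Z * Nat.card Z :=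
          Nat.mul_le_mul_right _ (Nat.mul_le_mul_left _ (Subgroup.card_le_card_group _))
        _ = _ := by ring
    rw [h.card]
    exact Nat.le_of_mul_le_mul_left h5 Nat.card_pos
  have hVY : V ≤ Y := by
    intro w hw
    refine ⟨h.VB hw, mem_centralizer_iff.2 fun w' hw' => h.Vcomm hw' hw, h.Vsq w hw, fun s _ hs1 => ?_⟩
    exact (mem_centralizer_iff.1 hs1 w hw).symm
  have hYV : V = Y := Subgroup.eq_of_le_of_card_ge hVY hYcard
  intro y hy hy1 hy2 hy3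
  rw [hYV]
  exact ⟨hy, hy1, hy2, hy3⟩

/-! ### The action of `kx V Z` on `V` -/

theorem kx_act {g v : G} (hg : g ∈ kx V Z) (hv : v ∈ V) : g * v * g⁻¹ * v⁻¹ ∈ Z :=
  (mem_kx.1 hg).2 v (h.V_le_ws h.ZV hv)

theorem kx_norm_V : kx V Z ≤ normalizer (V : Set G) := kx_normalizes h.ZV (h.V_le_ws h.ZV)

theorem kx_norm_V' {X : Subgroup G} (hXV : X ≤ V) : kx V X ≤ normalizer (V : Set G) :=
  kx_normalizes hXV (h.V_le_ws hXV)

/-- two elements of `kx V Z` commute modulo `C_G(V)` -/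
theorem kx_comm {a b v : G} (ha : a ∈ kx V Z) (hb : b ∈ kx V Z) (hv : v ∈ V) :
    a * b * v * (a * b)⁻¹ = b * a * v * (b * a)⁻¹ := by
  have h1 := h.kx_act ha hv
  have h2 := h.kx_act hb hv
  have h3 := (mem_kx.1 ha).1 _ h2
  have h4 := (mem_kx.1 hb).1 _ h1
  have h5 := h.Vcomm (h.ZV h1) (h.ZV h2)
  calc a * b * v * (a * b)⁻¹ = a * (b * v * b⁻¹ * v⁻¹) * a⁻¹ * (a * v * a⁻¹ * v⁻¹) * v := by group
    _ = (b * v * b⁻¹ * v⁻¹) * (a * v * a⁻¹ * v⁻¹) * v := by rw [h3, mul_inv_cancel_right]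
    _ = (a * v * a⁻¹ * v⁻¹) * (b * v * b⁻¹ * v⁻¹) * v := by rw [h5]
    _ = b * (a * v * a⁻¹ * v⁻¹) * b⁻¹ * (b * v * b⁻¹ * v⁻¹) * v := by rw [h4, mul_inv_cancel_right]
    _ = b * a * v * (b * a)⁻¹ := by group

/-- the squares of `kx V Z` centralise `V` -/
theorem kx_sq {a v : G} (ha : a ∈ kx V Z) (hv : v ∈ V) : a * a * v = v * (a * a) := by
  have h1 := h.kx_act ha hv
  have h3 := (mem_kx.1 ha).1 _ h1
  have h2 := h.Vsq _ (h.ZV h1)
  have h4 : a * a * v * (a * a)⁻¹ = v := by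
    calc a * a * v * (a * a)⁻¹ = a * (a * v * a⁻¹ * v⁻¹) * a⁻¹ * (a * v * a⁻¹ * v⁻¹) * v := by group
      _ = (a * v * a⁻¹ * v⁻¹) * (a * v * a⁻¹ * v⁻¹) * v := by rw [h3, mul_inv_cancel_right]
      _ = v := by rw [h2, one_mul]
  rwa [mul_inv_eq_iff_eq_mul] at h4

/-- `kx V Z = (B ∩ kx V Z) C_{kx}(V)` -/
theorem kx_two {g : G} (hg : g ∈ kx V Z) :
    ∃ k ∈ kx V Z, k ∈ B ∧ k * g⁻¹ ∈ centralizer (V : Set G) := by
  obtain ⟨m, hm, hgm⟩ := exists_odd_pow g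
  -- `g ^ m ≡ g`
  have h1 : g ^ m * g⁻¹ ∈ centralizer (V : Set G) := by
    obtain ⟨j, rfl⟩ := hm
    have h2 : g ^ (2 * j + 1) * g⁻¹ = (g * g) ^ j := by
      rw [pow_succ, mul_inv_cancel_right, pow_mul, pow_two]
    rw [h2]
    refine Subgroup.pow_mem _ ?_ j
    rw [mem_centralizer_iff]
    exact fun v hv => (h.kx_sq hg hv).symm
  have hSK : (S : Subgroup G) ≤ normalizer ((kx V Z : Subgroup G) : Set G) := h.S_le_N.trans (normalizer_le_kx V Z)
  have hB : zpowers (g ^ m) ≤ kx V Z ⊔ S := (zpowers_le.2 (pow_mem hg m)).trans le_sup_left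
  obtain ⟨x, hx, hxB⟩ := h.exists_le_conjB (H := kx V Z ⊔ S) le_sup_right
    (sup_le (kx_le_cent.trans (centralizer_le_normalizer _)) h.S_le_N) hgm.isPGroup hB
    (zpowers_le.2 (kx_le_cent (pow_mem hg m)))
  rw [← SetLike.mem_coe, coe_mul_of_right_le_normalizer_left _ _ hSK] at hx
  obtain ⟨k, hk, s, hs, rfl⟩ := hx
  have h3 : g ^ m ∈ cj (k * s) B := hxB (mem_zpowers _)
  rw [← cj_cj, cj_eq_iff.2 (h.S_le_NB hs), mem_cj] at h3
  refine ⟨k⁻¹ * g ^ m * k, mul_mem (mul_mem (inv_mem hk) (pow_mem hg m)) hk, h3, ?_⟩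
  rw [mem_centralizer_iff]
  intro v hv
  have h4 : ∀ v ∈ V, k⁻¹ * g ^ m * k * v * (k⁻¹ * g ^ m * k)⁻¹ = g ^ m * v * (g ^ m)⁻¹ := by
    intro v hv
    have h5 := h.kx_comm (inv_mem hk) (mul_mem (pow_mem hg m) hk) hv
    calc k⁻¹ * g ^ m * k * v * (k⁻¹ * g ^ m * k)⁻¹ = k⁻¹ * (g ^ m * k) * v * (k⁻¹ * (g ^ m * k))⁻¹ := by group
      _ = g ^ m * k * k⁻¹ * v * (g ^ m * k * k⁻¹)⁻¹ := h5
      _ = g ^ m * v * (g ^ m)⁻¹ := by group
  have hgV : g ∈ normalizer (V : Set G) := h.kx_norm_V hg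
  have h6 : g⁻¹ * v * g ∈ V := by
    have := (mem_normalizer_iff.1 (inv_mem hgV) v).1 hv
    rwa [inv_inv] at this
  have h7 : (g ^ m * g⁻¹) * v * (g ^ m * g⁻¹)⁻¹ = v := by
    rw [mul_inv_eq_iff_eq_mul]
    exact (mem_centralizer_iff.1 h1 v hv).symm
  have h8 : (k⁻¹ * g ^ m * k * g⁻¹) * v * (k⁻¹ * g ^ m * k * g⁻¹)⁻¹ = v := by
    calc (k⁻¹ * g ^ m * k * g⁻¹) * v * (k⁻¹ * g ^ m * k * g⁻¹)⁻¹
        = k⁻¹ * g ^ m * k * (g⁻¹ * v * g) * (k⁻¹ * g ^ m * k)⁻¹ := by group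
      _ = g ^ m * (g⁻¹ * v * g) * (g ^ m)⁻¹ := h4 _ h6
      _ = (g ^ m * g⁻¹) * v * (g ^ m * g⁻¹)⁻¹ := by group
      _ = v := h7
  rw [mul_inv_eq_iff_eq_mul] at h8
  exact h8.symm

section F1

variable (hf : ¬ kx V Z ≤ centralizer (V : Set G))
include hf

/-- **(F1)** `S ∩ kx V Z` covers `S / C_S(V)`. -/
theorem K_full {s : G} (hs : s ∈ B) :
    ∃ k ∈ kx V Z, k ∈ B ∧ k * s⁻¹ ∈ centralizer (V : Set G) := by
  by_cases hsV : s ∈ centralizer (V : Set G)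
  · exact ⟨1, one_mem _, one_mem _, by rw [one_mul]; exact inv_mem hsV⟩
  obtain ⟨g, hg, hgV⟩ := Set.not_subset.1 hf
  obtain ⟨k, hk, hkS, hkg⟩ := h.kx_two hg
  have hkV : k ∉ centralizer (V : Set G) := by
    intro e
    apply hgV
    have h1 := mul_mem (inv_mem hkg) e
    have h2 : (k * g⁻¹)⁻¹ * k = g := by group
    rwa [h2] at h1
  obtain ⟨t, ht, htZ, hts⟩ := h.torus k hkS s hs hkV hsV
  have h1 : t * k * t⁻¹ ∈ kx V Z := (mem_normalizer_iff.1 (normalizer_le_kx V Z htZ) k).1 hk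
  obtain ⟨k', hk', hkS', hkk⟩ := h.kx_two h1
  refine ⟨k', hk', hkS', ?_⟩
  have h2 := mul_mem hkk hts
  have h3 : k' * (t * k * t⁻¹)⁻¹ * (t * k * t⁻¹ * s⁻¹) = k' * s⁻¹ := by group
  rwa [h3] at h2

/-- `[k, v]` takes every value in `Z` -/
theorem K_act {v z : G} (hv : v ∈ V) (hvZ : v ∉ Z) (hz : z ∈ Z) :
    ∃ k ∈ kx V Z, k ∈ B ∧ k * v * k⁻¹ * v⁻¹ = z := by
  obtain ⟨s, hs, hsz⟩ := h.full v hv hvZ z hz
  obtain ⟨k, hk, hkS, hks⟩ := h.K_full hf hs
  refine ⟨k, hk, hkS, ?_⟩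
  have hsV : s ∈ normalizer (V : Set G) := h.PN (h.BP hs)
  have h1 := (mem_normalizer_iff.1 hsV v).1 hv
  have h2 := mem_centralizer_iff.1 hks _ h1
  rw [← hsz]
  congr 1
  calc k * v * k⁻¹ = (k * s⁻¹) * (s * v * s⁻¹) * (k * s⁻¹)⁻¹ := by group
    _ = (s * v * s⁻¹) * (k * s⁻¹) * (k * s⁻¹)⁻¹ := by rw [h2]
    _ = s * v * s⁻¹ := by group

/-- some element of `S ∩ kx V Z` is nontrivial on `V` -/
theorem exists_K : ∃ k ∈ kx V Z, k ∈ B ∧ k ∉ centralizer (V : Set G) := by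
  obtain ⟨g, hg, hgV⟩ := Set.not_subset.1 hf
  obtain ⟨k, hk, hkS, hkg⟩ := h.kx_two hg
  refine ⟨k, hk, hkS, fun e => hgV ?_⟩
  have h1 := mul_mem (inv_mem hkg) e
  have h2 : (k * g⁻¹)⁻¹ * k = g := by group
  rwa [h2] at h1

/-- **(F1)** `kx V Z` is transitive on the points `≠ Z` of `V`. -/
theorem K_trans {X Y : Subgroup G} (hX : IsCj Z X) (hXV : X ≤ V) (hY : IsCj Z Y) (hYV : Y ≤ V) (hXZ : X ≠ Z)
    (hYZ : Y ≠ Z) : ∃ k ∈ kx V Z, k ∈ B ∧ cj k X = Y := by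
  obtain ⟨x, hx, hx1⟩ := h.pt_ne_bot hX
  obtain ⟨z, hz, y, hy, rfl⟩ := h.exists_mul h.isCj_self h.ZV hY hYV hYZ.symm (hXV hx)
  have hxZ : z * y ∉ Z := fun e => hXZ (h.pts_eq hX h.isCj_self hx e hx1)
  have hy1 : y ≠ 1 := by
    rintro rfl
    rw [mul_one] at hxZ
    exact hxZ hz
  obtain ⟨k, hk, hkS, hkz⟩ := h.K_act hf (hXV hx) hxZ (Z.inv_mem hz)
  refine ⟨k, hk, hkS, h.pts_eq (hX.cj k) hY ?_ hy hy1⟩
  have h1 : k * (z * y) * k⁻¹ = y := by
    rw [mul_inv_eq_iff_eq_mul] at hkz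
    rw [hkz]; group
  rw [← h1]
  exact conj_mem_cj hx

end F1

/-- the hypothesis (F1) at the other points of `V` -/
theorem hf_pt (hf : ¬ kx V Z ≤ centralizer (V : Set G)) {X : Subgroup G} (hX : IsCj Z X) (hXV : X ≤ V) :
    ¬ kx V X ≤ centralizer (V : Set G) := by
  obtain ⟨p, hp, rfl⟩ := h.exists_pt hX hXV
  intro h1
  apply hf
  rw [kx_cj, cj_le_iff, cj_centralizer, cj_eq_iff.2 (inv_mem (h.PN hp))] at h1
  exact h1

/-- two points of `V` are interchanged by a 2-element of some `kx V T` -/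
theorem swap (hf : ¬ kx V Z ≤ centralizer (V : Set G)) {X Y : Subgroup G} (hX : IsCj Z X) (hXV : X ≤ V)
    (hY : IsCj Z Y) (hYV : Y ≤ V) : ∃ k ∈ XV V Z, k * k ∈ centralizer (V : Set G) ∧ cj k X = Y ∧ cj k Y = X := by
  by_cases hXY : X = Y
  · exact ⟨1, one_mem _, by rw [one_mul]; exact one_mem _, by rw [cj_one, hXY], by rw [cj_one, hXY]⟩
  obtain ⟨T, hT, hTV, hTX, hTY⟩ := h.exists_third hX hXV hY hYV hXY
  obtain ⟨S', B', h'⟩ := h.exists_flag hT hTV
  have hc : ∀ {X : Subgroup G}, IsCj Z X → IsCj T X := by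
    intro X hX
    obtain ⟨g, rfl⟩ := hT
    exact isCj_cj.2 hX
  obtain ⟨k, hk, -, hkX⟩ := h'.K_trans (h.hf_pt hf hT hTV) (hc hX) hXV (hc hY) hYV hTX.symm hTY.symm
  have hkk : k * k ∈ centralizer (V : Set G) := by
    rw [mem_centralizer_iff]
    exact fun v hv => (h'.kx_sq hk hv).symm
  refine ⟨k, le_XV hT hTV hk, hkk, hkX, ?_⟩
  rw [← hkX, cj_cj, cj_eq_iff]
  exact centralizer_le_normalizer _ (centralizer_le hXV hkk)

/-! ### (T7) -/

theorem isCj_of {X T : Subgroup G} (hT : IsCj Z T) (hX : IsCj Z X) : IsCj T X := by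
  obtain ⟨g, rfl⟩ := hT
  exact isCj_cj.2 hX

/-- **(T7)** `ws V X ⊓ ws V Y` is the same for all pairs of points of `V`. -/
theorem IV_eq (hf : ¬ kx V Z ≤ centralizer (V : Set G)) {X Y : Subgroup G} (hX : IsCj Z X) (hXV : X ≤ V)
    (hY : IsCj Z Y) (hYV : Y ≤ V) (hne : X ≠ Y) : ws V X ⊓ ws V Y = IV V Z := by
  refine le_antisymm ?_ (le_inf (IV_le hX hXV) (IV_le hY hYV))
  refine le_sInf ?_
  rintro _ ⟨T, hT, hTV, rfl⟩
  by_cases hTX : T = X
  · rw [hTX]; exact inf_le_left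
  obtain ⟨S', B', h'⟩ := h.exists_flag hX hXV
  obtain ⟨k, hk, -, hkY⟩ := h'.K_trans (h.hf_pt hf hX hXV) (h.isCj_of hX hY) hYV (h.isCj_of hX hT) hTV hne.symm hTX
  have h1 : k ∈ normalizer ((ws V X ⊓ ws V Y : Subgroup G) : Set G) :=
    kx_normalizes (le_inf (hXV.trans (h.V_le_ws hXV)) (hXV.trans (h.V_le_ws hYV))) inf_le_left hk
  rw [← cj_eq_iff] at h1
  rw [← h1, ← hkY, ws_cj, cj_le_cj]
  exact inf_le_right

theorem V_le_IV : V ≤ IV V Z := by
  refine le_sInf ?_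
  rintro _ ⟨Y, -, hYV, rfl⟩
  exact h.V_le_ws hYV

theorem IV_le_ws : IV V Z ≤ ws V Z := IV_le h.isCj_self h.ZV

theorem IV_comm {a b : G} (ha : a ∈ IV V Z) (hb : b ∈ IV V Z) : a * b = b * a :=
  (mem_centralizer_iff.1 (h.Wcomm (h.IV_le_ws ha)) b (h.IV_le_ws hb)).symm

theorem IV_sq {a : G} (ha : a ∈ IV V Z) : a * a = 1 := h.ws_sq a (h.IV_le_ws ha)

theorem XV_le_N : XV V Z ≤ normalizer (V : Set G) := by
  refine sSup_le ?_
  rintro _ ⟨Y, -, hYV, rfl⟩
  exact h.kx_norm_V' hYV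

/-- `XV` centralises `IV / V`. -/
theorem XV_act {g u : G} (hg : g ∈ XV V Z) (hu : u ∈ IV V Z) : g * u * g⁻¹ * u⁻¹ ∈ V := by
  let E : Subgroup G :=
    { carrier := {g | g ∈ normalizer (V : Set G) ∧ ∀ u ∈ IV V Z, g * u * g⁻¹ * u⁻¹ ∈ V}
      one_mem' := ⟨one_mem _, fun u _ => by
        have : (1 : G) * u * 1⁻¹ * u⁻¹ = 1 := by group
        rw [this]; exact one_mem _⟩
      mul_mem' := by
        rintro a b ⟨ha, ha'⟩ ⟨hb, hb'⟩
        refine ⟨mul_mem ha hb, fun u hu => ?_⟩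
        have e : a * b * u * (a * b)⁻¹ * u⁻¹ = a * (b * u * b⁻¹ * u⁻¹) * a⁻¹ * (a * u * a⁻¹ * u⁻¹) := by group
        rw [e]
        exact V.mul_mem ((mem_normalizer_iff.1 ha _).1 (hb' u hu)) (ha' u hu)
      inv_mem' := by
        rintro a ⟨ha, ha'⟩
        refine ⟨inv_mem ha, fun u hu => ?_⟩
        have e : a⁻¹ * u * a⁻¹⁻¹ * u⁻¹ = a⁻¹ * (a * u * a⁻¹ * u⁻¹)⁻¹ * a⁻¹⁻¹ := by group
        rw [e]
        exact (mem_normalizer_iff.1 (inv_mem ha) _).1 (V.inv_mem (ha' u hu)) }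
  have h1 : XV V Z ≤ E := by
    refine sSup_le ?_
    rintro _ ⟨Y, hY, hYV, rfl⟩ k hk
    exact ⟨h.kx_norm_V' hYV hk, fun u hu => hYV ((mem_kx.1 hk).2 u (IV_le hY hYV hu))⟩
  exact (h1 hg).2 u hu

/-- a nontrivial subgroup of `IV` normalised by `S` meets `Z` -/
theorem exists_fixed {D : Subgroup G} (hD : D ≤ IV V Z) (hDS : B ≤ normalizer (D : Set G))
    (hne : D ≠ ⊥) : ∃ d ∈ D, d ∈ Z ∧ d ≠ 1 := by
  have : Fact (Nat.Prime 2) := ⟨Nat.prime_two⟩
  have hDS' : D ≤ B := hD.trans (h.IV_le_ws.trans h.ws_le_B)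
  let _ : MulAction B D :=
    { smul := fun s d => ⟨(s : G) * d * (s : G)⁻¹, (mem_normalizer_iff.1 (hDS s.2) d).1 d.2⟩
      one_smul := fun d => Subtype.ext (by
        show (1 : G) * d * (1 : G)⁻¹ = d
        group)
      mul_smul := fun s t d => Subtype.ext (by
        show (s : G) * t * d * ((s : G) * t)⁻¹ = (s : G) * ((t : G) * d * (t : G)⁻¹) * (s : G)⁻¹
        group) }
  have h2 : 2 ∣ Nat.card D := by
    obtain ⟨n, hn⟩ := IsPGroup.iff_card.1 (h.isPGroup_of_le hDS')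
    rw [hn]
    have : n ≠ 0 := by
      rintro rfl
      rw [pow_zero] at hn
      exact hne (Subgroup.card_eq_one.1 hn)
    exact dvd_pow_self 2 this
  obtain ⟨d, hd, hd1⟩ := (h.isPGroup_of_le le_rfl).exists_fixed_point_of_prime_dvd_card_of_fixed_point D h2 (a := 1) (by
    intro s
    apply Subtype.ext
    show (s : G) * (1 : G) * (s : G)⁻¹ = 1
    group)
  refine ⟨d, d.2, ?_, fun e => hd1 (Subtype.ext e.symm)⟩
  refine h.omega d (hDS' d.2) (h.IV_sq (hD d.2)) fun s hs => ?_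
  have h3 : (⟨s, hs⟩ : B) • d = d := hd _
  have h4 : s * (d : G) * s⁻¹ = d := congrArg Subtype.val h3
  rwa [mul_inv_eq_iff_eq_mul] at h4

/-- `C_{IV}(XV) = 1` -/
theorem cent_IV (hf : ¬ kx V Z ≤ centralizer (V : Set G)) {u : G} (hu : u ∈ IV V Z)
    (hc : ∀ g ∈ XV V Z, g * u = u * g) : u = 1 := by
  by_contra hu1
  set D : Subgroup G := IV V Z ⊓ centralizer ((XV V Z : Subgroup G) : Set G) with hD
  have hDn : B ≤ normalizer (D : Set G) := by
    intro s hs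
    have hsV := h.PN (h.BP hs)
    rw [← cj_eq_iff, hD, cj_inf, cj_centralizer, cj_eq_iff.2 (normalizer_le_IV V Z hsV),
      cj_eq_iff.2 (normalizer_le_XV V Z hsV)]
  obtain ⟨d, hd, hdZ, hd1⟩ := h.exists_fixed (D := D) inf_le_left hDn (by
    intro e
    apply hu1
    rw [← mem_bot (G := G), ← e]
    refine ⟨hu, mem_centralizer_iff.2 fun g hg => hc g hg⟩)
  obtain ⟨Y, hY, hYV, hYZ⟩ := h.exists_second h.isCj_self h.ZV
  obtain ⟨S', B', h'⟩ := h.exists_flag hY hYV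
  obtain ⟨k, hk, hkS, hkV⟩ := h'.exists_K (h.hf_pt hf hY hYV)
  have h1 : k * d = d * k := mem_centralizer_iff.1 hd.2 k (le_XV hY hYV hk)
  have hdY : d ∈ Y := by
    by_contra e
    exact hkV (h'.mem_cent_of hkS (h.ZV hdZ) e h1)
  exact hYZ (h.pts_eq hY h.isCj_self hdY hdZ hd1)

/-- **CLAIM**: `C_{IV}(C_{XV}(V)) = V`. -/
theorem mem_V_of_comm (hf : ¬ kx V Z ≤ centralizer (V : Set G)) (hO : OmB B V) {u : G} (hu : u ∈ IV V Z)
    (hc : ∀ c ∈ XV V Z, c ∈ centralizer (V : Set G) → c * u = u * c) : u ∈ V := by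
  have huV : ∀ v ∈ V, v * u = u * v := fun v hv => h.IV_comm (h.V_le_IV hv) hu
  refine hO u (h.ws_le_B (h.IV_le_ws hu)) (mem_centralizer_iff.2 huV) (h.IV_sq hu) fun c _ hcV => ?_
  have hcN : c ∈ normalizer (V : Set G) := centralizer_le_normalizer _ hcV
  have hcv : ∀ v ∈ V, c * v = v * c := fun v hv => (mem_centralizer_iff.1 hcV v hv).symm
  set t := c * u * c⁻¹ * u⁻¹ with ht
  have htI : t ∈ IV V Z :=
    mul_mem ((mem_normalizer_iff.1 (normalizer_le_IV V Z hcN) u).1 hu) (inv_mem hu)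
  have ht1 : t = 1 := by
    refine h.cent_IV hf htI fun g hg => ?_
    have hgN := h.XV_le_N hg
    set v := g * u * g⁻¹ * u⁻¹ with hv
    have hvV : v ∈ V := h.XV_act hg hu
    -- `e = g⁻¹ c⁻¹ g c`
    have he1 : g⁻¹ * (c⁻¹ * g * c) ∈ XV V Z := by
      refine mul_mem (inv_mem hg) ?_
      have := (mem_normalizer_iff.1 (normalizer_le_XV V Z (inv_mem hcN)) g).1 hg
      rwa [inv_inv] at this
    have he2 : g⁻¹ * (c⁻¹ * g * c) ∈ centralizer (V : Set G) := by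
      rw [mem_centralizer_iff]
      intro w hw
      have hw' : g * w * g⁻¹ ∈ V := (mem_normalizer_iff.1 hgN w).1 hw
      have e1 := hcv w hw
      have e2 := hcv _ hw'
      have e3 : g⁻¹ * (c⁻¹ * g * c) * w * (g⁻¹ * (c⁻¹ * g * c))⁻¹ = w := by
        calc g⁻¹ * (c⁻¹ * g * c) * w * (g⁻¹ * (c⁻¹ * g * c))⁻¹
            = g⁻¹ * c⁻¹ * g * (c * w) * c⁻¹ * g⁻¹ * c * g := by group
          _ = g⁻¹ * c⁻¹ * g * (w * c) * c⁻¹ * g⁻¹ * c * g := by rw [e1]
          _ = g⁻¹ * c⁻¹ * ((g * w * g⁻¹) * c) * g := by group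
          _ = g⁻¹ * c⁻¹ * (c * (g * w * g⁻¹)) * g := by rw [e2]
          _ = w := by group
      rw [mul_inv_eq_iff_eq_mul] at e3
      exact e3.symm
    have he := hc _ he1 he2
    have hgu : g * u * g⁻¹ = v * u := by rw [hv]; group
    have h1 : g * (c * u * c⁻¹) * g⁻¹ = v * (c * u * c⁻¹) := by
      calc g * (c * u * c⁻¹) * g⁻¹
          = c * g * ((g⁻¹ * (c⁻¹ * g * c)) * u) * (g⁻¹ * (c⁻¹ * g * c))⁻¹ * g⁻¹ * c⁻¹ := by group
        _ = c * g * (u * (g⁻¹ * (c⁻¹ * g * c))) * (g⁻¹ * (c⁻¹ * g * c))⁻¹ * g⁻¹ * c⁻¹ := by rw [he]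
        _ = c * (g * u * g⁻¹) * c⁻¹ := by group
        _ = c * (v * u) * c⁻¹ := by rw [hgu]
        _ = (c * v) * u * c⁻¹ := by group
        _ = (v * c) * u * c⁻¹ := by rw [hcv v hvV]
        _ = v * (c * u * c⁻¹) := by group
    have h2 : g * t * g⁻¹ = t := by
      calc g * t * g⁻¹ = (g * (c * u * c⁻¹) * g⁻¹) * (g * u * g⁻¹)⁻¹ := by rw [ht]; group
        _ = v * (c * u * c⁻¹) * (v * u)⁻¹ := by rw [h1, hgu]
        _ = v * t * v⁻¹ := by rw [ht]; group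
        _ = t := by rw [h.IV_comm (h.V_le_IV hvV) htI, mul_inv_cancel_right]
    rwa [mul_inv_eq_iff_eq_mul] at h2
  rw [ht, mul_inv_eq_one, mul_inv_eq_iff_eq_mul] at ht1
  exact ht1

/-- `XV` is irreducible on `V` -/
theorem irr (hf : ¬ kx V Z ≤ centralizer (V : Set G)) {D : Subgroup G} (hD : D ≤ V)
    (hDn : ∀ g ∈ XV V Z, ∀ d ∈ D, g * d * g⁻¹ ∈ D) (hne : D ≠ ⊥) : D = V := by
  obtain ⟨d, hd, hd1⟩ : ∃ d ∈ D, d ≠ 1 := by
    by_contra hcon
    push Not at hcon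
    exact hne ((eq_bot_iff_forall _).2 hcon)
  obtain ⟨Y, hY, hYV, hdY⟩ := h.exists_point (hD hd) hd1
  have key : ∀ T, IsCj Z T → T ≤ V → T ≠ Y → T ≤ D := by
    intro T hT hTV hTY y hy
    obtain ⟨S', B', h'⟩ := h.exists_flag hT hTV
    obtain ⟨k, hk, -, hky⟩ := h'.K_act (h.hf_pt hf hT hTV) (hD hd)
      (fun e => hTY (h.pts_eq hT hY e hdY hd1)) hy
    rw [← hky]
    exact mul_mem (hDn k (le_XV hT hTV hk) d hd) (inv_mem hd)
  obtain ⟨T, hT, hTV, hTY⟩ := h.exists_second hY hYV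
  obtain ⟨T', hT', hTV', hTT, hTY'⟩ := h.exists_third hT hTV hY hYV hTY
  refine le_antisymm hD fun v hv => ?_
  obtain ⟨x, hx, y, hy, rfl⟩ := h.exists_mul hT hTV hT' hTV' hTT.symm hv
  exact mul_mem (key T hT hTV hTY hx) (key T' hT' hTV' hTY' hy)

section F2

variable (hf : ¬ kx V Z ≤ centralizer (V : Set G)) (hO : OmB B V) {u : G} (hu : u ∈ IV V Z) (huV : u ∉ V)
include hf hO hu huV

/-- **(F2)** `c ↦ [c, u]` maps `C_{XV}(V)` onto `V`. -/
theorem F2 {v : G} (hv : v ∈ V) : ∃ c ∈ XV V Z, c ∈ centralizer (V : Set G) ∧ c * u * c⁻¹ * u⁻¹ = v := by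
  let D : Subgroup G :=
    { carrier := {v | v ∈ V ∧ ∃ c ∈ XV V Z, c ∈ centralizer (V : Set G) ∧ c * u * c⁻¹ * u⁻¹ = v}
      one_mem' := ⟨one_mem _, 1, one_mem _, one_mem _, by group⟩
      mul_mem' := by
        rintro _ _ ⟨ha, a, ha1, ha2, rfl⟩ ⟨hb, b, hb1, hb2, rfl⟩
        refine ⟨mul_mem ha hb, a * b, mul_mem ha1 hb1, mul_mem ha2 hb2, ?_⟩
        have h1 := mem_centralizer_iff.1 ha2 _ hb
        calc a * b * u * (a * b)⁻¹ * u⁻¹ = a * (b * u * b⁻¹ * u⁻¹) * a⁻¹ * (a * u * a⁻¹ * u⁻¹) := by group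
          _ = (b * u * b⁻¹ * u⁻¹) * (a * u * a⁻¹ * u⁻¹) := by rw [← h1, mul_inv_cancel_right]
          _ = _ := h.Vcomm hb ha
      inv_mem' := by
        rintro _ ⟨ha, a, ha1, ha2, rfl⟩
        refine ⟨inv_mem ha, a⁻¹, inv_mem ha1, inv_mem ha2, ?_⟩
        have h1 := mem_centralizer_iff.1 ha2 _ (V.inv_mem ha)
        calc a⁻¹ * u * a⁻¹⁻¹ * u⁻¹ = a⁻¹ * ((a * u * a⁻¹ * u⁻¹)⁻¹ * a) := by group
          _ = a⁻¹ * (a * (a * u * a⁻¹ * u⁻¹)⁻¹) := by rw [h1]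
          _ = _ := by group }
  have hD : D = V := by
    refine h.irr hf (fun d hd => hd.1) ?_ ?_
    · rintro g hg _ ⟨hd, c, hc, hcV, rfl⟩
      have hgN := h.XV_le_N hg
      have hcg : g * c * g⁻¹ ∈ XV V Z := mul_mem (mul_mem hg hc) (inv_mem hg)
      have hcgV : g * c * g⁻¹ ∈ centralizer (V : Set G) := by
        have h1 : g * c * g⁻¹ ∈ cj g (centralizer (V : Set G)) := conj_mem_cj hcV
        rwa [cj_centralizer, cj_eq_iff.2 hgN] at h1
      refine ⟨(mem_normalizer_iff.1 hgN _).1 hd, g * c * g⁻¹, hcg, hcgV, ?_⟩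
      set v := g * u * g⁻¹ * u⁻¹ with hv
      have hvV : v ∈ V := h.XV_act hg hu
      have h2 := mem_centralizer_iff.1 hcgV v hvV
      have h3 : (g * c * g⁻¹) * u * (g * c * g⁻¹)⁻¹ * u⁻¹ ∈ V := h.XV_act hcg hu
      have h4 := h.Vcomm hvV h3
      have hgu : g * u * g⁻¹ = v * u := by rw [hv]; group
      symm
      calc g * (c * u * c⁻¹ * u⁻¹) * g⁻¹
          = (g * c * g⁻¹) * (g * u * g⁻¹) * (g * c * g⁻¹)⁻¹ * (g * u * g⁻¹)⁻¹ := by group
        _ = (g * c * g⁻¹) * (v * u) * (g * c * g⁻¹)⁻¹ * (v * u)⁻¹ := by rw [hgu]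
        _ = ((g * c * g⁻¹) * v) * u * (g * c * g⁻¹)⁻¹ * u⁻¹ * v⁻¹ := by group
        _ = (v * (g * c * g⁻¹)) * u * (g * c * g⁻¹)⁻¹ * u⁻¹ * v⁻¹ := by rw [h2]
        _ = v * ((g * c * g⁻¹) * u * (g * c * g⁻¹)⁻¹ * u⁻¹) * v⁻¹ := by group
        _ = (g * c * g⁻¹) * u * (g * c * g⁻¹)⁻¹ * u⁻¹ := by rw [h4, mul_inv_cancel_right]
    · intro e
      apply huV
      refine h.mem_V_of_comm hf hO hu fun c hc hcV => ?_
      have h1 : c * u * c⁻¹ * u⁻¹ ∈ D := ⟨h.XV_act hc hu, c, hc, hcV, rfl⟩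
      rw [e, mem_bot, mul_inv_eq_one, mul_inv_eq_iff_eq_mul] at h1
      exact h1
  have h1 : v ∈ D := by rw [hD]; exact hv
  exact h1.2

/-- **(F2)** `C_{XV}(u)` covers `XV / C_{XV}(V)`. -/
theorem F2_cover {g : G} (hg : g ∈ XV V Z) : ∃ x ∈ XV V Z, x * u = u * x ∧ x * g⁻¹ ∈ centralizer (V : Set G) := by
  obtain ⟨c, hc, hcV, hcu⟩ := h.F2 hf hO hu huV (V.inv_mem (h.XV_act hg hu))
  refine ⟨c * g, mul_mem hc hg, ?_, by rwa [mul_inv_cancel_right]⟩
  have h1 := mem_centralizer_iff.1 hcV _ (h.XV_act hg hu)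
  have h2 : c * g * u * (c * g)⁻¹ * u⁻¹ = 1 := by
    calc c * g * u * (c * g)⁻¹ * u⁻¹ = (c * (g * u * g⁻¹ * u⁻¹)) * c⁻¹ * (c * u * c⁻¹ * u⁻¹) := by group
      _ = ((g * u * g⁻¹ * u⁻¹) * c) * c⁻¹ * (g * u * g⁻¹ * u⁻¹)⁻¹ := by rw [hcu, h1]
      _ = 1 := by group
  rwa [mul_inv_eq_one, mul_inv_eq_iff_eq_mul] at h2

/-- **(F2)** two points of `V` are interchanged by a 2-element of `XV` centralising `u`. -/
theorem F2_swap {X Y : Subgroup G} (hX : IsCj Z X) (hXV : X ≤ V) (hY : IsCj Z Y) (hYV : Y ≤ V) :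
    ∃ x ∈ XV V Z, TwoEl x ∧ x * u = u * x ∧ cj x X = Y ∧ cj x Y = X := by
  obtain ⟨k, hk, hkk, hkX, hkY⟩ := h.swap hf hX hXV hY hYV
  obtain ⟨x, hx, hxu, hxk⟩ := h.F2_cover hf hO hu huV hk
  obtain ⟨m, hm, hxm⟩ := exists_odd_pow x
  -- `x * x` centralises `V`
  have hkN := h.XV_le_N hk
  have hact : ∀ {T : Subgroup G}, T ≤ V → cj x T = cj k T := by
    intro T hT
    have h1 : cj (x * k⁻¹) (cj k T) = cj k T := by
      rw [cj_eq_iff]
      refine centralizer_le_normalizer _ (centralizer_le ?_ hxk)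
      show cj k T ≤ V
      rw [cj_le_iff, cj_eq_iff.2 (inv_mem hkN)]
      exact hT
    rw [cj_cj, inv_mul_cancel_right] at h1
    exact h1
  have hxx : x * x ∈ centralizer (V : Set G) := by
    have h1 : x * k⁻¹ * (k * (x * k⁻¹) * k⁻¹) ∈ centralizer (V : Set G) := by
      refine mul_mem hxk ?_
      have h2 : k * (x * k⁻¹) * k⁻¹ ∈ cj k (centralizer (V : Set G)) := conj_mem_cj hxk
      rwa [cj_centralizer, cj_eq_iff.2 hkN] at h2
    have h2 := mul_mem h1 hkk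
    have h3 : x * k⁻¹ * (k * (x * k⁻¹) * k⁻¹) * (k * k) = x * x := by group
    rwa [h3] at h2
  have hpow : ∀ {T : Subgroup G}, T ≤ V → cj (x ^ m) T = cj x T := by
    intro T hT
    obtain ⟨j, rfl⟩ := hm
    have h1 : x ^ (2 * j + 1) = x * (x * x) ^ j := by rw [pow_succ', pow_mul, pow_two]
    rw [h1, ← cj_cj, cj_eq_iff.2 (centralizer_le_normalizer _ (centralizer_le hT (pow_mem hxx j)))]
  refine ⟨x ^ m, pow_mem hx m, hxm, ?_, ?_, ?_⟩
  · exact (Commute.pow_left (show Commute x u from hxu) m).eq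
  · rw [hpow hXV, hact hXV, hkX]
  · rw [hpow hYV, hact hYV, hkY]

/-- **(F2')** `[u, C_{kx Y}(V)] = Y` for every point `Y` of `V`. -/
theorem F2' {Y : Subgroup G} (hY : IsCj Z Y) (hYV : Y ≤ V) {y : G} (hy : y ∈ Y) :
    ∃ d ∈ kx V Y, d ∈ centralizer (V : Set G) ∧ d * u * d⁻¹ * u⁻¹ = y := by
  obtain ⟨S', B', h'⟩ := h.exists_flag hY hYV
  obtain ⟨v, hv, hvY⟩ := h'.exists_out
  obtain ⟨r, hr, -, hrv⟩ := h'.K_act (h.hf_pt hf hY hYV) hv hvY (Y.inv_mem hy)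
  obtain ⟨c, hc, hcV, hcu⟩ := h.F2 hf hO hu huV hv
  have hrN := h.kx_norm_V' hYV hr
  have hcY : c ∈ normalizer (Y : Set G) := centralizer_le_normalizer _ (centralizer_le hYV hcV)
  have hcN : c ∈ normalizer (V : Set G) := centralizer_le_normalizer _ hcV
  refine ⟨c * r * c⁻¹ * r⁻¹, ?_, ?_, ?_⟩
  · exact mul_mem ((mem_normalizer_iff.1 (normalizer_le_kx V Y hcY) r).1 hr) (inv_mem hr)
  · have h1 : r * c⁻¹ * r⁻¹ ∈ cj r (centralizer (V : Set G)) := conj_mem_cj (inv_mem hcV)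
    rw [cj_centralizer, cj_eq_iff.2 hrN] at h1
    have h2 := mul_mem hcV h1
    have h3 : c * (r * c⁻¹ * r⁻¹) = c * r * c⁻¹ * r⁻¹ := by group
    rwa [h3] at h2
  · -- `r⁻¹ u r = y₁ u`
    obtain ⟨y₁, hy₁, hry⟩ : ∃ y₁ ∈ Y, r⁻¹ * u * r = y₁ * u := by
      refine ⟨r⁻¹ * u * r⁻¹⁻¹ * u⁻¹, (mem_kx.1 (inv_mem hr)).2 u (IV_le hY hYV hu), by group⟩
    have hry' : r * u * r⁻¹ = y₁⁻¹ * u := by
      have h1 := (mem_kx.1 hr).1 y₁ hy₁
      have h2 : u = r * (y₁ * u) * r⁻¹ := by rw [← hry]; group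
      have h3 : r * (y₁ * u) * r⁻¹ = y₁ * (r * u * r⁻¹) := by
        calc r * (y₁ * u) * r⁻¹ = (r * y₁) * u * r⁻¹ := by group
          _ = (y₁ * r) * u * r⁻¹ := by rw [h1]
          _ = _ := by group
      rw [h3] at h2
      rw [eq_inv_mul_iff_mul_eq]
      exact h2.symm
    have hcu' : c * u * c⁻¹ = v * u := by
      rw [mul_inv_eq_iff_eq_mul] at hcu
      exact hcu
    have hcv : ∀ w ∈ V, c * w * c⁻¹ = w := fun w hw => by
      rw [mul_inv_eq_iff_eq_mul]; exact (mem_centralizer_iff.1 hcV w hw).symm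
    have hcv' : ∀ w ∈ V, c⁻¹ * w * c = w := fun w hw => by
      have := hcv w hw
      nth_rewrite 1 [← this]
      group
    have hcu'' : c⁻¹ * u * c = v⁻¹ * u := by
      have h1 : u = v⁻¹ * (c * u * c⁻¹) := by rw [hcu']; group
      nth_rewrite 1 [h1]
      calc c⁻¹ * (v⁻¹ * (c * u * c⁻¹)) * c = (c⁻¹ * v⁻¹ * c) * u := by group
        _ = v⁻¹ * u := by rw [hcv' _ (V.inv_mem hv)]
    have hrv' : r * v * r⁻¹ = y⁻¹ * v := by
      rw [mul_inv_eq_iff_eq_mul] at hrv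
      exact hrv
    have hrvi : r * v⁻¹ * r⁻¹ = v⁻¹ * y := by
      have : r * v⁻¹ * r⁻¹ = (r * v * r⁻¹)⁻¹ := by group
      rw [this, hrv']; group
    have hry1 : r * y₁ * r⁻¹ = y₁ := by rw [mul_inv_eq_iff_eq_mul]; exact (mem_kx.1 hr).1 y₁ hy₁
    have hyV := hYV hy
    have hy1V := hYV hy₁
    have cvy : v * y = y * v := h.Vcomm hv hyV
    have cvi : v⁻¹ * y = y * v⁻¹ := h.Vcomm (V.inv_mem hv) hyV
    calc c * r * c⁻¹ * r⁻¹ * u * (c * r * c⁻¹ * r⁻¹)⁻¹ * u⁻¹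
        = c * r * c⁻¹ * (r⁻¹ * u * r) * c * r⁻¹ * c⁻¹ * u⁻¹ := by group
      _ = c * r * (c⁻¹ * (y₁ * u) * c) * r⁻¹ * c⁻¹ * u⁻¹ := by rw [hry]; group
      _ = c * r * ((c⁻¹ * y₁ * c) * (c⁻¹ * u * c)) * r⁻¹ * c⁻¹ * u⁻¹ := by group
      _ = c * r * (y₁ * (v⁻¹ * u)) * r⁻¹ * c⁻¹ * u⁻¹ := by rw [hcv' _ hy1V, hcu'']
      _ = c * ((r * y₁ * r⁻¹) * (r * v⁻¹ * r⁻¹) * (r * u * r⁻¹)) * c⁻¹ * u⁻¹ := by group
      _ = c * (y₁ * (v⁻¹ * y) * (y₁⁻¹ * u)) * c⁻¹ * u⁻¹ := by rw [hry1, hrvi, hry']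
      _ = c * ((y₁ * (v⁻¹ * y) * y₁⁻¹) * u) * c⁻¹ * u⁻¹ := by group
      _ = c * ((v⁻¹ * y) * u) * c⁻¹ * u⁻¹ := by
        rw [h.Vcomm hy1V (V.mul_mem (V.inv_mem hv) hyV), mul_inv_cancel_right]
      _ = (c * (v⁻¹ * y) * c⁻¹) * (c * u * c⁻¹) * u⁻¹ := by group
      _ = (v⁻¹ * y) * (v * u) * u⁻¹ := by rw [hcv _ (V.mul_mem (V.inv_mem hv) hyV), hcu']
      _ = v⁻¹ * (y * v) := by group
      _ = y := by rw [← cvy]; group

end F2

/-- **(STAR)** Let `X`, `Y` be points of the line `V` and `A` a point not on `V`. If some `u ∈ A#` is contained in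
`IV = ws V X ⊓ ws V Y`, then `W_A` commutes with `W_X` if and only if it commutes with `W_Y`. -/
theorem star (hf : ¬ kx V Z ≤ centralizer (V : Set G)) (hO : OmB B V) {A X Y : Subgroup G} (hA : IsCj Z A)
    (hAV : ¬ A ≤ V) (hX : IsCj Z X) (hXV : X ≤ V) (hY : IsCj Z Y) (hYV : Y ≤ V) {u : G} (huA : u ∈ A) (hu1 : u ≠ 1)
    (hu : u ∈ IV V Z) (hcom : ws V A ≤ centralizer ((ws V X : Subgroup G) : Set G)) :
    ws V A ≤ centralizer ((ws V Y : Subgroup G) : Set G) := by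
  have huV : u ∉ V := by
    intro e
    obtain ⟨T, hT, hTV, huT⟩ := h.exists_point e hu1
    exact hAV (h.pts_eq hA hT huA huT hu1 ▸ hTV)
  obtain ⟨x, -, hx2, hxu, hxX, -⟩ := h.F2_swap hf hO hu huV hX hXV hY hYV
  have h2 : cj x A = A := cj_eq_iff.2 (h.norm_of_comm hA huA hu1 hxu)
  have h3 := conj_le_centralizer (g := x) hcom
  change cj x (ws V A) ≤ centralizer ((cj x (ws V X) : Subgroup G) : Set G) at h3
  rwa [← ws_cj, ← ws_cj, h2, hxX] at h3

end PB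

end Cfsg.Agent.Omega.NO3S.PT

end

section


/-!
# NO-3S, natural lines, the `(R, B)`-frame: (LIN) (copy of `Lin.lean`)

* `PB.lin'` : `g ∈ C_G(Z)` centralises one `v ∈ V - Z` modulo `Z`: then `s g ∈ C_G(V)` for some `s ∈ B`;
* `PB.lin` : so `[g, V] ≤ Z`.
-/

set_option autoImplicit false

namespace Cfsg.Agent.Omega.NO3S.PT

open Subgroup Cfsg.Agent.Omega.NoFF.Basic
open scoped Pointwise

variable {G : Type*} [Group G]

namespace PB

variable [Finite G] {S : Sylow 2 G} {B P V Z : Subgroup G} (h : PB S B P V Z)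
include h

/-- an element centralising `Z` and one element of `V - Z` centralises `V` -/
theorem mem_centralizer_of_fix {k v : G} (hk : ∀ z ∈ Z, k * z = z * k) (hv : v ∈ V) (hvZ : v ∉ Z)
    (hkv : k * v = v * k) : k ∈ centralizer (V : Set G) := by
  -- `k` normalises every point `X ≠ Z` of `V`
  have hpt : ∀ X, IsCj Z X → X ≤ V → X ≠ Z → k ∈ normalizer (X : Set G) := by
    intro X hX hXV hXZ
    obtain ⟨z, hz, x, hx, hzx⟩ := h.exists_mul h.isCj_self h.ZV hX hXV hXZ.symm hv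
    have hx1 : x ≠ 1 := by
      rintro rfl
      exact hvZ (by rw [hzx, mul_one]; exact hz)
    obtain ⟨g, rfl⟩ := hX
    refine (h.conj g).ti x hx hx1 k ?_
    have e : x = z⁻¹ * v := by rw [hzx]; group
    rw [e, ← mul_assoc, hk _ (Z.inv_mem hz), mul_assoc, hkv, mul_assoc]
  have key : ∀ u ∈ V, u ∉ Z → k * u = u * k := by
    intro u hu huZ
    have hu1 : u ≠ 1 := fun e => huZ (by rw [e]; exact one_mem _)
    obtain ⟨X, hX, hXV, huX⟩ := h.exists_point hu hu1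
    have hXZ : X ≠ Z := fun e => huZ (e ▸ huX)
    obtain ⟨z, hz, hz1⟩ := h.pt_ne_bot h.isCj_self
    have hzu : z * u ∉ Z := fun e => huZ ((Z.mul_mem_cancel_left hz).1 e)
    have hzu1 : z * u ≠ 1 := fun e => hzu (by rw [e]; exact one_mem _)
    obtain ⟨Y, hY, hYV, huY⟩ := h.exists_point (V.mul_mem (h.ZV hz) hu) hzu1
    have hYZ : Y ≠ Z := fun e => hzu (e ▸ huY)
    have hYX : Y ≠ X := by
      rintro rfl
      have hzY : z ∈ Y := (Y.mul_mem_cancel_right huX).1 huY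
      exact hYZ (h.pts_eq hY h.isCj_self hzY hz hz1)
    have h1 : k * u * k⁻¹ * u⁻¹ ∈ X :=
      X.mul_mem ((mem_normalizer_iff.1 (hpt X hX hXV hXZ) u).1 huX) (X.inv_mem huX)
    have h2 : k * (z * u) * k⁻¹ * (z * u)⁻¹ ∈ Y :=
      Y.mul_mem ((mem_normalizer_iff.1 (hpt Y hY hYV hYZ) _).1 huY) (Y.inv_mem huY)
    have h3 : k * (z * u) * k⁻¹ * (z * u)⁻¹ = k * u * k⁻¹ * u⁻¹ := by
      have hkuV : k * u * k⁻¹ * u⁻¹ ∈ V := hXV h1
      calc k * (z * u) * k⁻¹ * (z * u)⁻¹ = (k * z) * u * k⁻¹ * (u⁻¹ * z⁻¹) := by group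
        _ = z * (k * u * k⁻¹ * u⁻¹) * z⁻¹ := by rw [hk z hz]; group
        _ = k * u * k⁻¹ * u⁻¹ := by rw [h.Vcomm (h.ZV hz) hkuV, mul_inv_cancel_right]
    rw [h3] at h2
    have h4 : k * u * k⁻¹ * u⁻¹ ∈ Y ⊓ X := ⟨h2, h1⟩
    rw [h.pts_inf hY hX hYX, mem_bot, mul_inv_eq_one, mul_inv_eq_iff_eq_mul] at h4
    exact h4
  rw [mem_centralizer_iff]
  intro u hu
  by_cases huZ : u ∈ Z
  · exact (hk u huZ).symm
  · exact (key u hu huZ).symm

/-- **(LIN)** -/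
theorem lin' {g v : G} (hg : ∀ z ∈ Z, g * z = z * g) (hv : v ∈ V) (hvZ : v ∉ Z)
    (hgv : g * v * g⁻¹ * v⁻¹ ∈ Z) : ∃ s ∈ B, s * g ∈ centralizer (V : Set G) := by
  set z := g * v * g⁻¹ * v⁻¹ with hz
  obtain ⟨s, hs, hsv⟩ := h.full v hv hvZ z⁻¹ (Z.inv_mem hgv)
  refine ⟨s, hs, h.mem_centralizer_of_fix (v := v) ?_ hv hvZ ?_⟩
  · intro w hw
    rw [mul_assoc, hg w hw, ← mul_assoc, h.cen w hw s hs, mul_assoc]
  · have e1 : g * v * g⁻¹ = z * v := by rw [hz]; group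
    have e2 : s * v * s⁻¹ = z⁻¹ * v := by rw [← hsv]; group
    have e3 : s * g * v * (s * g)⁻¹ = v := by
      calc s * g * v * (s * g)⁻¹ = s * (g * v * g⁻¹) * s⁻¹ := by group
        _ = (s * z) * v * s⁻¹ := by rw [e1]; group
        _ = z * (s * v * s⁻¹) := by rw [h.cen z hgv s hs]; group
        _ = v := by rw [e2]; group
    rwa [mul_inv_eq_iff_eq_mul] at e3

/-- **(LIN)** -/
theorem lin {g v : G} (hg : ∀ z ∈ Z, g * z = z * g) (hv : v ∈ V) (hvZ : v ∉ Z)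
    (hgv : g * v * g⁻¹ * v⁻¹ ∈ Z) : ∀ u ∈ V, g * u * g⁻¹ * u⁻¹ ∈ Z := by
  obtain ⟨s, hs, hc⟩ := h.lin' hg hv hvZ hgv
  intro u hu
  have h1 : s * g * u * (s * g)⁻¹ = u := by
    rw [mul_inv_eq_iff_eq_mul]; exact (mem_centralizer_iff.1 hc u hu).symm
  have h2 : g * u * g⁻¹ = s⁻¹ * u * s := by
    calc g * u * g⁻¹ = s⁻¹ * (s * g * u * (s * g)⁻¹) * s := by group
      _ = s⁻¹ * u * s := by rw [h1]
  rw [h2]
  have h3 := h.act s⁻¹ (inv_mem hs) u hu
  rwa [inv_inv] at h3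

/-- (LIN) for normalisers: `g ∈ C_G(Z)` and `[g, v] ∈ Z` for one `v ∈ V - Z` imply `g ∈ N_G(V)`. -/
theorem mem_normalizer_of_lin {g v : G} (hg : ∀ z ∈ Z, g * z = z * g) (hv : v ∈ V) (hvZ : v ∉ Z)
    (hgv : g * v * g⁻¹ * v⁻¹ ∈ Z) : g ∈ normalizer (V : Set G) := by
  obtain ⟨s, hs, hc⟩ := h.lin' hg hv hvZ hgv
  have h1 : g = s⁻¹ * (s * g) := by group
  rw [h1]
  exact mul_mem (h.PN (h.BP (inv_mem hs))) (centralizer_le_normalizer _ hc)

end PB

end Cfsg.Agent.Omega.NO3S.PT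

end

end

-- merged: Cfsg.Agent.Mrg.Omega.NO3S.PB.Geom
section

section


/-!
# NO-3S, natural lines, the `(R, B)`-frame: the instance of `NOThree.Pts.Geom`

Copy of `PtGeom.lean` (helper471) over `PB S B P V Z`.
-/

set_option autoImplicit false
set_option linter.unusedSectionVars false
set_option linter.unusedVariables false

namespace Cfsg.Agent.Omega.NO3S.PB.Geom

open Subgroup Cfsg.Agent.Omega.NoFF.Basic Cfsg.Agent.Omega.NO3S.PT Cfsg.Agent.Omega.NOThree.Pts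
open Cfsg.Agent.Omega.NO3S.PtGeom (Pt inc hf_conj smul_base_eq)
open scoped Pointwise

variable {G : Type*} [Group G]

section

variable [Finite G] {S : Sylow 2 G} {B P V Z : Subgroup G}

theorem omB_conj (hO : OmB B V) (g : G) : OmB (cj g B) (cj g V) := by
  intro y hy hyV hyy hc
  rw [mem_cj] at hy
  rw [← cj_centralizer, mem_cj] at hyV
  rw [mem_cj]
  refine hO _ hy hyV ?_ fun s hs hsV => ?_
  · have := congrArg (fun t => g⁻¹ * t * g) hyy
    simpa [mul_assoc] using this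
  · have h1 := hc (g * s * g⁻¹) (conj_mem_cj hs)
      (by rw [← cj_centralizer]; exact conj_mem_cj hsV)
    have h2 := congrArg (fun t => g⁻¹ * t * g) h1
    simpa [mul_assoc] using h2

end

section

variable [Finite G] {S : Sylow 2 G} {B P V Z : Subgroup G} (h : PB S B P V Z)
include h

/-- every flag is conjugate to `(Z, V)` -/
theorem exists_conj_flag {X L : Subgroup G} (hX : IsCj Z X) (hL : IsCj V L) (hXL : X ≤ L) :
    ∃ g : G, X = cj g Z ∧ L = cj g V := by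
  obtain ⟨g, rfl⟩ := hL
  obtain ⟨p, hp, hXp⟩ := h.exists_pt (hX.cj g⁻¹) (by rw [cj_le_iff, inv_inv]; exact hXL)
  refine ⟨g * p, ?_, ?_⟩
  · rw [← cj_cj, ← hXp, cj_cj, mul_inv_cancel, cj_one]
  · rw [← cj_cj, cj_eq_iff.2 (h.PN hp)]

theorem ws_sq_pt {X : Subgroup G} (hX : IsCj Z X) : ∀ a ∈ ws V X, a * a = 1 := by
  obtain ⟨g, rfl⟩ := hX
  have := (h.conj g).ws_sq
  rwa [ws_cj_left] at this

/-- `(F1)` -/
theorem inf_eq (hf : ¬ kx V Z ≤ centralizer (V : Set G)) {X Y L : Subgroup G} (hL : IsCj V L)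
    (hX : IsCj Z X) (hXL : X ≤ L) (hY : IsCj Z Y) (hYL : Y ≤ L) (hne : X ≠ Y) :
    ws V X ⊓ ws V Y = IV L X := by
  obtain ⟨g, rfl, rfl⟩ := exists_conj_flag h hX hL hXL
  have h1 := (h.conj g).IV_eq (hf_conj hf g) (X := cj g Z) (Y := Y) ⟨1, (cj_one _).symm⟩ hXL
    (isCj_cj.2 hY) hYL hne
  rwa [ws_cj_left, ws_cj_left] at h1

theorem IV_conj (hf : ¬ kx V Z ≤ centralizer (V : Set G)) (g : G) : IV (cj g V) (cj g Z) = cj g (IV V Z) := by
  obtain ⟨Y, hY, hYV, hne⟩ := h.exists_second h.isCj_self h.ZV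
  rw [← h.IV_eq hf h.isCj_self h.ZV hY hYV hne.symm, cj_inf, ← ws_cj, ← ws_cj]
  exact (inf_eq h hf (L := cj g V) ⟨g, rfl⟩ (h.isCj_self.cj g) (cj_le_cj.2 h.ZV) (hY.cj g) (cj_le_cj.2 hYV)
    (fun e => hne (cj_inj.1 e).symm)).symm

/-- **The instance.** -/
theorem geom (hf : ¬ kx V Z ≤ centralizer (V : Set G)) (hO : OmB B V) :
    Geom (X := Pt Z) (L := Pt V) inc (fun x => x.sg) (fun x => ws V x.sg) (fun l => l.sg) (Nat.card Z)
      ((IV V Z).relIndex (ws V Z)) where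
  inc_smul g x l hxl := cj_le_cj.2 hxl
  R_smul g x a ha := conj_mem_cj ha
  W_smul g x a ha := by
    rw [Pt.sg_smul, ws_cj]
    exact conj_mem_cj ha
  V_smul g l a ha := conj_mem_cj ha
  two_le := h.one_lt_card
  card x := h.card_pt x.isCj
  ti x y a ha ha' h1 := Pt.ext (h.pts_eq x.isCj y.isCj ha ha' h1)
  R_le x l hxl := hxl
  V_le x l hxl := le_ws l.isCj hxl
  W_le x A hA := ws_le fun L hL hXL => hA (Pt.mk hL) hXL
  cover l a ha := by
    obtain ⟨g, hg⟩ := l.exists_smul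
    have hl : l.sg = cj g V := by rw [hg]; rfl
    by_cases ha1 : a = 1
    · refine ⟨Pt.mk (h.isCj_self.cj g), ?_, ?_⟩
      · show cj g Z ≤ l.sg
        rw [hl]
        exact cj_le_cj.2 h.ZV
      · rw [ha1]; exact one_mem _
    · rw [hl] at ha
      obtain ⟨X, hX, hXV, haX⟩ := (h.conj g).exists_point ha ha1
      exact ⟨Pt.mk (isCj_cj.1 hX), by rw [← hl] at hXV; exact hXV, haX⟩
  exists_line x := by
    obtain ⟨g, hg⟩ := x.exists_smul
    refine ⟨Pt.mk ⟨g, rfl⟩, ?_⟩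
    show x.sg ≤ cj g V
    rw [hg]
    exact cj_le_cj.2 h.ZV
  comm x a ha b hb := (mem_centralizer_iff.1 (h.ws_comm x.isCj ha) b hb).symm
  sq x := ws_sq_pt h x.isCj
  F1 x y z l hx hy hz hxy hxz := by
    rw [inf_eq h hf l.isCj x.isCj hx y.isCj hy (fun e => hxy (Pt.ext e)),
      inf_eq h hf l.isCj x.isCj hx z.isCj hz (fun e => hxz (Pt.ext e))]
  index x y l hx hy hxy := by
    rw [inf_eq h hf l.isCj x.isCj hx y.isCj hy (fun e => hxy (Pt.ext e))]
    obtain ⟨g, h1, h2⟩ := exists_conj_flag h x.isCj l.isCj hx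
    rw [h1, h2, IV_conj h hf, ws_cj]
    exact relIndex_pointwise_smul _ _ _
  F2 x y z l hx hy hz hxy u hu hu' huV := by
    obtain ⟨g, h1, h2⟩ := exists_conj_flag h x.isCj l.isCj hx
    have hI : u ∈ IV (cj g V) (cj g Z) := by
      rw [← h1, ← h2, ← inf_eq h hf l.isCj x.isCj hx y.isCj hy (fun e => hxy (Pt.ext e))]
      exact ⟨hu, hu'⟩
    have hx' : x.sg ≤ cj g V := by rw [← h2]; exact hx
    have hz' : z.sg ≤ cj g V := by rw [← h2]; exact hz
    obtain ⟨c, hc, -, hcu, hcx, -⟩ := (h.conj g).F2_swap (hf_conj hf g) (omB_conj hO g) hI (by rwa [← h2])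
      (isCj_cj.2 x.isCj) hx' (isCj_cj.2 z.isCj) hz'
    refine ⟨c, hcu, Pt.ext ?_, Pt.ext hcx⟩
    show cj c l.sg = l.sg
    rw [h2, cj_eq_iff]
    exact (h.conj g).XV_le_N hc

/-! ### Critical pairs -/

open Cfsg.Agent.Omega.NoFF.Lines (W_le line_le)

/-- the product of the lines on `Z` -/
theorem W_eq (hV : NoFF.Basic.V Z P = V) : NoFF.Lines.W Z (normalizer (Z : Set G)) {P} = ws V Z := by
  apply le_antisymm
  · refine W_le fun Q hQ c hc => ?_
    rw [Set.mem_singleton_iff.1 hQ, hV]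
    refine le_ws ⟨c, rfl⟩ ?_
    have h1 : cj c Z = Z := cj_eq_iff.2 hc
    nth_rewrite 1 [← h1]
    exact cj_le_cj.2 h.ZV
  · refine ws_le fun L hL hZL => ?_
    obtain ⟨g, h1, rfl⟩ := exists_conj_flag h h.isCj_self hL hZL
    have h2 := line_le (Z := Z) (C := normalizer (Z : Set G)) (F := {P}) (Set.mem_singleton P)
      (c := g) (cj_eq_iff.1 h1.symm)
    rwa [hV] at h2

theorem walk_of_path {k : ℕ} {a b : G} (hp : NoFF.Lines.Path (normalizer (Z : Set G)) {P} k a b) :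
    Walk (inc (Z := Z) (V := V)) k (a • Pt.base Z) (b • Pt.base Z) := by
  induction hp with
  | @zero g c hc =>
    have h1 : (g * c) • Pt.base Z = g • Pt.base Z := by
      rw [smul_base_eq, mul_inv_rev, inv_mul_cancel_right]
      exact inv_mem hc
    rw [h1]
    exact .zero _
  | @step k g x p c Q _ hQ hp hc ih =>
    rw [Set.mem_singleton_iff.1 hQ] at hp
    have h1 : (x * p * c) • Pt.base Z = (x * p) • Pt.base Z := by
      rw [smul_base_eq, mul_inv_rev, inv_mul_cancel_right]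
      exact inv_mem hc
    rw [h1]
    refine ih.step (l := x • Pt.base V) ?_ ?_
    · show cj x Z ≤ cj x V
      exact cj_le_cj.2 h.ZV
    · show cj (x * p) Z ≤ cj x V
      rw [← cj_cj, cj_le_cj]
      exact h.pt_le hp

theorem path_of_walk {k : ℕ} {x y : Pt Z} (hw : Walk (inc (Z := Z) (V := V)) k x y) :
    ∀ a b : G, x = a • Pt.base Z → y = b • Pt.base Z → NoFF.Lines.Path (normalizer (Z : Set G)) {P} k a b := by
  induction hw with
  | zero x =>
    intro a b ha hb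
    have h1 := smul_base_eq.1 (ha.symm.trans hb)
    have h2 := NoFF.Lines.Path.zero (F := {P}) a h1
    rwa [mul_inv_cancel_left] at h2
  | @step k x y z l _ hy hz ih =>
    intro a b ha hb
    obtain ⟨g, h1, h2⟩ := exists_conj_flag h y.isCj l.isCj hy
    have h3 := ih a g ha (Pt.ext h1)
    have hz' : z.sg ≤ cj g V := by rw [← h2]; exact hz
    obtain ⟨p, hp, hzp⟩ := h.exists_pt (z.isCj.cj g⁻¹) (by rw [cj_le_iff, inv_inv]; exact hz')
    have h4 : z = (g * p) • Pt.base Z := by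
      refine Pt.ext ?_
      show z.sg = cj (g * p) Z
      rw [← cj_cj, ← hzp, cj_cj, mul_inv_cancel, cj_one]
    have h5 := smul_base_eq.1 (h4.symm.trans hb)
    have h6 := h3.step (Set.mem_singleton P) hp h5
    rwa [mul_inv_cancel_left] at h6

theorem com_iff (hV : NoFF.Basic.V Z P = V) {a b : G} :
    NoFF.Lines.Com Z (normalizer (Z : Set G)) {P} a b ↔
      Com (fun x : Pt Z => ws V x.sg) (a • Pt.base Z) (b • Pt.base Z) := by
  unfold NoFF.Lines.Com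
  rw [W_eq h hV]
  have h1 : ∀ g : G, (MulAut.conj g • ws V Z : Subgroup G) = ws V (g • Pt.base Z).sg := fun g => by
    rw [Pt.sg_smul, ws_cj]; rfl
  rw [h1, h1]
  constructor
  · intro h2 u hu v hv
    exact (mem_centralizer_iff.1 (h2 hu) v hv).symm
  · intro h2 u hu
    exact mem_centralizer_iff.2 fun v hv => (h2 u hu v hv).symm

/-- **Critical pairs.** -/
theorem crit (hV : NoFF.Basic.V Z P = V) {n : ℕ} {a b : G}
    (hc : NoFF.Lines.Crit Z (normalizer (Z : Set G)) {P} n a b) :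
    Crit (inc (Z := Z) (V := V)) (fun x : Pt Z => ws V x.sg) n (a • Pt.base Z) (b • Pt.base Z) where
  walk := walk_of_path h hc.path
  ne := fun h1 => hc.ne ((com_iff h hV).2 h1)
  min := by
    intro k hk x y hw
    obtain ⟨a', rfl⟩ := x.exists_smul
    obtain ⟨b', rfl⟩ := y.exists_smul
    exact (com_iff h hV).1 (hc.min k hk _ _ (path_of_walk h hw a' b' rfl rfl))

end

end Cfsg.Agent.Omega.NO3S.PB.Geom

end

section


/-!
# The `(R, B)`-frame: `B` is a Sylow 2-subgroup of every `H` with `B ≤ H ≤ C_G(Z)`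

* `PB.exists_syl`, `PB.exists_le_conj`, `PB.exists_conj`;
* `PB.exists_cent_line` : all lines on `Z` are conjugate in `C_G(Z)`;
* `PB.inv_fix` : an involution which centralises a point `X` and normalises another point `Y` on a line `L` centralises `Y`.
-/

set_option autoImplicit false
set_option linter.unusedSectionVars false

namespace Cfsg.Agent.Omega.NO3S.PT

open Subgroup Cfsg.Agent.Omega.NoFF.Basic
open scoped Pointwise

variable {G : Type*} [Group G]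

namespace PB

variable [Finite G] {S : Sylow 2 G} {B P V Z : Subgroup G} (h : PB S B P V Z)
include h

theorem isPGroup_B : IsPGroup 2 B := h.isPGroup_of_le le_rfl

/-- every 2-subgroup of `C_G(Z)` has order at most `|B|` -/
theorem card_le_B {D : Subgroup G} (hD : IsPGroup 2 D) (hDZ : D ≤ centralizer (Z : Set G)) :
    Nat.card D ≤ Nat.card B := by
  obtain ⟨m, -, hm⟩ := h.exists_le_conjB h.SN le_rfl hD (hDZ.trans (centralizer_le_normalizer _)) hDZ
  refine (Subgroup.card_le_of_le hm).trans ?_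
  exact (Nat.card_congr (Subgroup.equivSMul (MulAut.conj m) B).toEquiv).ge

/-- `B` is a Sylow 2-subgroup of `H`. -/
theorem exists_syl {H : Subgroup G} (hB : B ≤ H) (hH : H ≤ centralizer (Z : Set G)) :
    ∃ T : Sylow 2 H, (T : Subgroup H) = B.subgroupOf H := by
  obtain ⟨T, hT⟩ := (h.isPGroup_B.comap_subtype (K := H)).exists_le_sylow
  refine ⟨T, (Subgroup.eq_of_le_of_card_ge hT ?_).symm⟩
  have h1 : Nat.card (B.subgroupOf H) = Nat.card B := Nat.card_congr (Subgroup.subgroupOfEquivOfLe hB).toEquiv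
  have h2 : Nat.card ((T : Subgroup H).map H.subtype) = Nat.card T :=
    Nat.card_congr ((T : Subgroup H).equivMapOfInjective H.subtype H.subtype_injective).symm.toEquiv
  show Nat.card T ≤ Nat.card (B.subgroupOf H)
  rw [h1, ← h2]
  refine h.card_le_B (T.isPGroup'.map _) ?_
  refine le_trans ?_ hH
  rintro _ ⟨x, -, rfl⟩
  exact x.2

/-- A 2-subgroup of `H`, `B ≤ H ≤ C_G(Z)`, lies in an `H`-conjugate of `B`. -/
theorem exists_le_conj {H D : Subgroup G} (hB : B ≤ H) (hH : H ≤ centralizer (Z : Set G)) (hD : IsPGroup 2 D)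
    (hDH : D ≤ H) : ∃ m ∈ H, D ≤ cj m B := by
  have : Fact (Nat.Prime 2) := ⟨Nat.prime_two⟩
  obtain ⟨T, hT⟩ := h.exists_syl hB hH
  obtain ⟨T', hT'⟩ := (hD.comap_subtype (K := H)).exists_le_sylow
  obtain ⟨m, hm⟩ := MulAction.exists_smul_eq H T T'
  refine ⟨m, m.2, fun x hx => ?_⟩
  rw [mem_cj]
  have h1 : (⟨x, hDH hx⟩ : H) ∈ (T' : Subgroup H) := hT' (mem_subgroupOf.2 hx)
  rw [← hm] at h1
  have h2 : (⟨x, hDH hx⟩ : H) ∈ ((m • T : Sylow 2 H) : Subgroup H) := h1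
  have h3 := mem_conj (H := (T : Subgroup H)).1 h2
  rw [hT] at h3
  exact mem_subgroupOf.1 h3

/-- Two conjugates of `B` in `H`, `B ≤ H ≤ C_G(Z)`, are conjugate in `H`. -/
theorem exists_conj {H : Subgroup G} (hB : B ≤ H) (hH : H ≤ centralizer (Z : Set G)) {a : G} (ha : cj a B ≤ H) :
    ∃ m ∈ H, cj m B = cj a B := by
  have hcard : ∀ g : G, Nat.card (cj g B : Subgroup G) = Nat.card B := fun g =>
    (Nat.card_congr (Subgroup.equivSMul (MulAut.conj g) B).toEquiv).symm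
  obtain ⟨m, hm, h1⟩ := h.exists_le_conj hB hH (D := cj a B) (by
    have := (h.conj a).isPGroup_of_le (A := cj a B) le_rfl
    exact this) ha
  refine ⟨m, hm, (Subgroup.eq_of_le_of_card_ge h1 ?_).symm⟩
  rw [hcard, hcard]

/-- all lines on `Z` are conjugate in `C_G(Z)` -/
theorem exists_cent_line {M : Subgroup G} (hM : IsCj V M) (hZM : Z ≤ M) :
    ∃ c ∈ centralizer (Z : Set G), M = cj c V := by
  obtain ⟨g, hg, rfl⟩ := PB.Geom.exists_conj_flag h h.isCj_self hM hZM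
  have h1 : cj g B ≤ centralizer (Z : Set G) := by
    have h2 : cj g B ≤ cj g (centralizer (Z : Set G)) := cj_le_cj.2 h.B_le
    rwa [cj_centralizer, ← hg] at h2
  obtain ⟨c, hc, hcB⟩ := h.exists_conj h.B_le le_rfl h1
  refine ⟨c, hc, ?_⟩
  have h2 : c⁻¹ * g ∈ normalizer (B : Set G) := by
    rw [← cj_eq_iff, ← cj_cj, ← hcB, cj_cj, inv_mul_cancel, cj_one]
  have h5 := cj_eq_iff.2 (h.NB h2)
  rw [← cj_cj] at h5
  have h6 := congrArg (cj c) h5
  rwa [cj_cj, mul_inv_cancel, cj_one] at h6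

/-- an involution which centralises the point `X` and normalises the point `Y` on `L`, centralises `Y` -/
theorem inv_fix {L X Y : Subgroup G} (hL : IsCj V L) (hX : IsCj Z X) (hXL : X ≤ L) (hY : IsCj Z Y) (hYL : Y ≤ L)
    (hne : X ≠ Y) {g : G} (hg : g * g = 1) (hgX : ∀ x ∈ X, g * x = x * g) (hgY : cj g Y = Y) :
    ∀ y ∈ Y, g * y = y * g := by
  have hg2 : TwoEl g := ⟨1, by rw [pow_one, pow_two]; exact hg⟩
  obtain ⟨y, hy, hy1⟩ := h.pt_ne_bot hY
  -- a fixed point of `g` on `Y`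
  obtain ⟨u, hu, hu1, hgu⟩ : ∃ u ∈ Y, u ≠ 1 ∧ g * u = u * g := by
    have hyY : g * y * g⁻¹ ∈ Y := by
      have h1 := conj_mem_cj (g := g) hy
      rwa [hgY] at h1
    have hYL' : ∀ a ∈ Y, ∀ b ∈ Y, a * b = b * a := by
      intro a ha b hb
      obtain ⟨c, rfl⟩ := hL
      exact (h.conj c).Vcomm (hYL ha) (hYL hb)
    have hg' : g⁻¹ = g := inv_eq_of_mul_eq_one_left hg
    by_cases hc : y * (g * y * g⁻¹) = 1
    · refine ⟨y, hy, hy1, ?_⟩
      have hyy : y * y = 1 := by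
        obtain ⟨c, rfl⟩ := hL
        exact (h.conj c).Vsq y (hYL hy)
      have h2 : g * y * g⁻¹ = y := by
        have h3 : g * y * g⁻¹ = y⁻¹ := by
          rw [eq_inv_iff_mul_eq_one]
          have := hYL' _ hyY _ hy
          rw [this]; exact hc
        rw [h3, inv_eq_of_mul_eq_one_left hyy]
      rwa [mul_inv_eq_iff_eq_mul] at h2
    · refine ⟨y * (g * y * g⁻¹), mul_mem hy hyY, hc, ?_⟩
      have h1 := hYL' _ hyY _ hy
      calc g * (y * (g * y * g⁻¹)) = (g * y * g⁻¹) * (g * g) * y * g⁻¹ := by group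
        _ = (g * y * g⁻¹) * y * g⁻¹ := by rw [hg]; group
        _ = (g * y * g⁻¹) * y * g := by rw [hg']
        _ = y * (g * y * g⁻¹) * g := by rw [h1]
  have h1 := h.two_col' hL hX hXL hY hYL hne hg2 (mem_centralizer_iff.2 fun x hx => (hgX x hx).symm) hu hu1 hgu
  exact fun v hv => (mem_centralizer_iff.1 h1 v (hYL hv)).symm

end PB

end Cfsg.Agent.Omega.NO3S.PT

end

section


/-!
# FarQ K-free over the `(R, B)`-frame: the fields `fl`, `cl`, `f2` of `Frm`, and `JS`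

`PB S B P V Z`, (F1), `OmB B V`; points, lines of `PtGeom`.
-/

set_option autoImplicit false
set_option linter.unusedSectionVars false

namespace Cfsg.Agent.Omega.NO3S.FarQ.Free.RealB2

open Subgroup Cfsg Cfsg.Agent.ZN Cfsg.Agent.MinSimple.VModule Cfsg.Agent.Omega.NOThree.Pts
open Cfsg.Agent.Omega.NO3S.FarQ Cfsg.Agent.Omega.NO3S.FarQ.Glue Cfsg.Agent.Omega.NO3S.PT
open Cfsg.Agent.Omega.NO3S.PtGeom (Pt inc)
open Cfsg.Agent.Omega.NO3S.FarQ.Free.Canon
open scoped Pointwise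

universe u

variable {G : Type u} [Group G] [Finite G] {S : Sylow 2 G} {B P V Z : Subgroup G} (h : PB S B P V Z)
include h

/-- every flag is conjugate to the base flag -/
theorem fl : ∀ (x : Pt Z) (m : Pt V), inc x m → ∃ g : G, x = g • Pt.base Z ∧ m = g • Pt.base V := by
  intro x m hxm
  obtain ⟨g, h1, h2⟩ := PB.Geom.exists_conj_flag h x.isCj m.isCj hxm
  exact ⟨g, Pt.ext h1, Pt.ext h2⟩

/-- `C_G(Z)` is transitive on the lines on `Z` -/
theorem cl : ∀ m : Pt V, inc (Pt.base Z) m → ∃ c ∈ centralizer ((Pt.base Z).sg : Set G), m = c • Pt.base V := by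
  intro m hm
  obtain ⟨c, hc, e⟩ := h.exists_cent_line m.isCj hm
  exact ⟨c, hc, Pt.ext e⟩

theorem mem_IV {u : G} (hu : ∀ y : Pt Z, inc y (Pt.base V) → u ∈ ws V y.sg) : u ∈ IV V Z := by
  rw [IV, Subgroup.mem_sInf]
  rintro _ ⟨Y, hY, hYV, rfl⟩
  exact hu (Pt.mk hY) hYV

/-- (F2') -/
theorem f2 (hf : ¬ kx V Z ≤ centralizer (V : Set G)) (hO : OmB B V) : ∀ u : G, (∀ y : Pt Z, inc y (Pt.base V) → u ∈ ws V y.sg) → u ∉ (Pt.base V).sg →
    ∀ y : Pt Z, inc y (Pt.base V) → ∀ r ∈ y.sg, ∃ k ∈ centralizer ((Pt.base V).sg : Set G),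
      (∀ w ∈ ws V y.sg, k * w * k⁻¹ * w⁻¹ ∈ y.sg) ∧ k * u * k⁻¹ * u⁻¹ = r := by
  intro u hu huV y hy r hr
  obtain ⟨d, hd, hdV, e⟩ := h.F2' hf hO (mem_IV h hu) huV y.isCj hy hr
  exact ⟨d, hdV, (mem_kx.1 hd).2, e⟩

variable {H M : Type*} [Group H] [CommGroup M] [MulDistribMulAction H M]
variable {ρ : G → H} {π : G → M} {lam U : Subgroup M}

theorem exists_js_base (hf : ¬ kx V Z ≤ centralizer (V : Set G)) (hO : OmB B V)
    (F : RF (inc (Z := Z) (V := V)) (fun x => x.sg) (fun x => ws V x.sg) (fun l => l.sg) (Pt.base Z) (Pt.base V)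
      ρ π lam U) : ∃ J : Subgroup H, JS lam U J ∧ ∀ c ∈ fixer (H := H) lam, ∀ j ∈ J, c * j * c⁻¹ ∈ J := by
  have hA : XV V Z ⊓ centralizer (V : Set G) ≤ centralizer (Z : Set G) :=
    inf_le_right.trans (centralizer_le h.ZV)
  have hVW : V ≤ ws V Z := h.V_le_ws h.ZV
  have D := PB.Geom.geom h hf hO
  have hCV : centralizer (V : Set G) ≤ centralizer (Z : Set G) := centralizer_le h.ZV
  refine ⟨im F.re (XV V Z ⊓ centralizer (V : Set G)) hA, ⟨?_, ?_, ?_⟩, ?_⟩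
  · rintro _ ⟨c, hc, rfl⟩ a ha
    obtain ⟨v, hv, rfl⟩ := (F.mlam a).1 ha
    rw [← F.re.act c (hA hc) v (hVW hv)]
    have h1 := mem_centralizer_iff.1 hc.2 v hv
    rw [← h1, mul_inv_cancel_right]
  · rintro _ ⟨c, hc, rfl⟩ u hu
    obtain ⟨w, hw, hwy, rfl⟩ := (F.mU u).1 hu
    rw [← π_comm F.re D (hA hc) hw]
    exact (F.mlam _).2 ⟨_, h.XV_act hc.1 (mem_IV h hwy), rfl⟩
  · intro u hu hul a ha
    obtain ⟨w, hw, hwy, rfl⟩ := (F.mU u).1 hu
    obtain ⟨v, hv, rfl⟩ := (F.mlam a).1 ha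
    have hwV : w ∉ V := fun e => hul ((F.mlam _).2 ⟨w, e, rfl⟩)
    obtain ⟨c, hc, hcV, hcu⟩ := h.F2 hf hO (mem_IV h hwy) hwV hv
    refine ⟨ρ c, ⟨c, ⟨hc, hcV⟩, rfl⟩, ?_⟩
    rw [← F.re.act c (hA ⟨hc, hcV⟩) w hw]
    have e : c * w * c⁻¹ = v * w := by rw [← hcu]; group
    rw [e, F.re.pmul v (hVW hv) w hw, mul_comm]
  · rintro c hc _ ⟨j, hj, rfl⟩
    obtain ⟨g, hg, rfl⟩ := F.cov c hc
    have hg' : g ∈ normalizer (V : Set G) := centralizer_le_normalizer _ hg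
    refine ⟨g * j * g⁻¹, Subgroup.mem_inf.2 ⟨?_, mul_mem (mul_mem hg (Subgroup.mem_inf.1 hj).2) (inv_mem hg)⟩,
      F.re.conj (hCV hg) (hA hj)⟩
    exact (mem_normalizer_iff.1 (normalizer_le_XV V Z hg') j).1 (Subgroup.mem_inf.1 hj).1

/-- **`JS` at every realised flag.** -/
theorem exists_js (hf : ¬ kx V Z ≤ centralizer (V : Set G)) (hO : OmB B V) {x : Pt Z} {l : Pt V}
    (F : RF (inc (Z := Z) (V := V)) (fun x => x.sg) (fun x => ws V x.sg) (fun l => l.sg) x l ρ π lam U) :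
    ∃ J : Subgroup H, JS lam U J ∧ ∀ c ∈ fixer (H := H) lam, ∀ j ∈ J, c * j * c⁻¹ ∈ J := by
  have D := PB.Geom.geom h hf hO
  obtain ⟨g, hx, hl⟩ := fl h x l F.pl
  have F' := F.smul D g⁻¹
  rw [hx, hl, inv_smul_smul, inv_smul_smul] at F'
  exact exists_js_base h hf hO F'

end Cfsg.Agent.Omega.NO3S.FarQ.Free.RealB2

end

section


/-!
# Points and lines of NO-3S without (F1), over the `(R, B)`-frame

`geo` : the instance of `FarQ.FOneGeo.Geo` from `PB S B P V Z`.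
-/

set_option autoImplicit false
set_option linter.unusedSectionVars false
set_option linter.unusedVariables false

namespace Cfsg.Agent.Omega.NO3S.FarB.FOneGeo

open Subgroup Cfsg Cfsg.Agent.ZN

section instance_

open Cfsg.Agent.Omega.NO3S.PT Cfsg.Agent.Omega.NO3S.PtGeom
open Cfsg.Agent.Omega.NO3S.PB.Geom (ws_sq_pt)
open Cfsg.Agent.Omega.NO3S.FarQ.FOneGeo (Geo)
open scoped Pointwise

variable {G : Type*} [Group G] [Finite G] {S : Sylow 2 G} {B P V Z : Subgroup G} (h : PB S B P V Z)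
include h

theorem geo : Geo (X := Pt Z) (L := Pt V) PtGeom.inc (fun x => x.sg) (fun x => ws V x.sg) (fun l => l.sg) where
  inc_smul g x l hxl := cj_le_cj.2 hxl
  R_smul g x a ha := conj_mem_cj ha
  W_smul g x a ha := by
    rw [Pt.sg_smul, ws_cj]
    exact conj_mem_cj ha
  V_smul g l a ha := conj_mem_cj ha
  exists_ne x := h.pt_ne_bot x.isCj
  ti x y a ha ha' h1 := Pt.ext (h.pts_eq x.isCj y.isCj ha ha' h1)
  R_le x l hxl := hxl
  V_le x l hxl := le_ws l.isCj hxl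
  exists_line x := by
    obtain ⟨g, hg⟩ := x.exists_smul
    refine ⟨Pt.mk ⟨g, rfl⟩, ?_⟩
    show x.sg ≤ cj g V
    rw [hg]
    exact cj_le_cj.2 h.ZV
  comm x a ha b hb := (mem_centralizer_iff.1 (h.ws_comm x.isCj ha) b hb).symm
  sq x := PB.Geom.ws_sq_pt h x.isCj

end instance_

end Cfsg.Agent.Omega.NO3S.FarB.FOneGeo

end

section


/-!
# (F1) for `q ≥ 4` over the `(R, B)`-frame (copy of `FarQ/FOne.lean`)

`hf_of` : `PB S B P V Z`, a critical pair at distance `n ≥ 1`, no over-offender in `O₂(C_H(lam))` and `PSf` imply (F1):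
`¬ kx V Z ≤ C_G(V)`.
-/

set_option autoImplicit false
set_option linter.unusedSectionVars false

namespace Cfsg.Agent.Omega.NO3S.FarB.FOne

open Subgroup Cfsg Cfsg.Agent.ZN Cfsg.Agent.MinSimple.VModule Cfsg.Agent.Omega.NO3S.PT Cfsg.Agent.Omega.NO3S.FarQ
open Cfsg.Agent.Omega.NO3S.FarQ.FOne
open Cfsg.Agent.Omega.NO3S.PtGeom (Pt)
open Cfsg.Agent.Omega.NO3S.PB.Geom (exists_conj_flag)
open Cfsg.Agent.Omega.NOThree.Pts (Walk Com Crit mem_normalizer_of_conj conj_mem_of_le_normalizer)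
open Cfsg.Agent.ClassTwoFusion.Quad (cv mem_cv cv_anti)
open scoped Pointwise

variable {G : Type*} [Group G]

section main

variable [Finite G] {S : Sylow 2 G} {B₀ P V Z : Subgroup G} (h : PB S B₀ P V Z)
variable {H M : Type*} [Group H] [CommGroup M] [MulDistribMulAction H M] {ρ : G → H} {π : G → M}
include h

/-- `K_Z` centralises all lines on `Z` if it centralises one. -/
theorem kx_le (hf : kx V Z ≤ centralizer (V : Set G)) : kx V Z ≤ centralizer (ws V Z : Set G) := by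
  have h1 : ws V Z ≤ centralizer (kx V Z : Set G) := by
    refine ws_le fun L hL hZL => ?_
    obtain ⟨g, h1, rfl⟩ := exists_conj_flag h h.isCj_self hL hZL
    have h2 : cj g (kx V Z) = kx V Z := by rw [← kx_cj, ← h1]
    rw [← h2, ← cj_centralizer, cj_le_cj]
    intro v hv
    exact mem_centralizer_iff.2 fun k hk => (mem_centralizer_iff.1 (hf hk) v hv).symm
  intro k hk
  exact mem_centralizer_iff.2 fun w hw => (mem_centralizer_iff.1 (h1 hw) k hk).symm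

theorem kx_eq (hf : kx V Z ≤ centralizer (V : Set G)) : kx V Z = centralizer (ws V Z : Set G) := by
  refine le_antisymm (kx_le h hf) fun g hg => ⟨fun z hz => ?_, fun w hw => ?_⟩
  · exact (mem_centralizer_iff.1 hg z (h.Z_le_ws hz)).symm
  · rw [(mem_centralizer_iff.1 hg w hw).symm, mul_inv_cancel_right, mul_inv_cancel]
    exact one_mem _

theorem Off.le_cent {B : Subgroup G} (hB : Off V V Z B) : B ≤ centralizer (Z : Set G) :=
  hB.le.trans ((o2_le _).trans (centralizer_le h.ZV))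

/-- `lam` -/
theorem ph_V_mem (r : Real V Z ρ π) {m : M} :
    m ∈ (V.subgroupOf (ws V Z)).map (ph r) ↔ ∃ v ∈ V, π v = m := by
  constructor
  · rintro ⟨v, hv, rfl⟩
    exact ⟨v, hv, rfl⟩
  · rintro ⟨v, hv, rfl⟩
    exact ⟨⟨v, h.V_le_ws h.ZV hv⟩, hv, rfl⟩

variable (r : Real V Z ρ π)

/-- elements over `C_H(lam)` -/
theorem lift_fixer {x : H} (hx : x ∈ fixer ((V.subgroupOf (ws V Z)).map (ph r))) :
    ∃ a ∈ centralizer (Z : Set G), ρ a = x ∧ a ∈ normalizer (V : Set G) ∧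
      ∃ s ∈ B₀, s * a ∈ centralizer (V : Set G) := by
  obtain ⟨a, ha, rfl⟩ := r.surjρ x
  obtain ⟨Y, hY, hYV, hne⟩ := h.exists_second h.isCj_self h.ZV
  obtain ⟨v, hv, hv1⟩ := h.pt_ne_bot hY
  have hvZ : v ∉ Z := fun e => hne (h.pts_eq hY h.isCj_self hv e hv1)
  have hvW : v ∈ ws V Z := h.V_le_ws h.ZV (hYV hv)
  have h1 : π (a * v * a⁻¹) = π v := by
    rw [r.act a ha v hvW]
    exact hx (π v) ((ph_V_mem h r).2 ⟨v, hYV hv, rfl⟩)
  have h2 : a * v * a⁻¹ * v⁻¹ ∈ Z := by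
    have h3 := cent_conj r ha hvW
    rw [← r.kerπ _ (mul_mem h3 (inv_mem hvW)), r.mulπ _ h3 _ (inv_mem hvW), pi_inv r hvW, h1, mul_inv_cancel]
  have hz : ∀ z ∈ Z, a * z = z * a := fun z hz => (mem_centralizer_iff.1 ha z hz).symm
  exact ⟨a, ha, rfl, h.mem_normalizer_of_lin hz (hYV hv) hvZ h2, h.lin' hz (hYV hv) hvZ h2⟩

omit [Finite G] h in
theorem o2_conj_of_norm {a : G} (haN : a ∈ normalizer (V : Set G)) :
    cj a (o2 (centralizer (V : Set G))) = o2 (centralizer (V : Set G)) := by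
  have h3 : MulAut.conj a • centralizer (V : Set G) = centralizer (V : Set G) := by
    have := cj_centralizer a V
    rwa [cj_eq_iff.2 haN] at this
  have h4 := MinSimple.CosetFam.o2_conj a (centralizer (V : Set G))
  rw [h3] at h4
  exact h4.symm

omit r in
theorem o2_le_B : o2 (centralizer (V : Set G)) ≤ B₀ := by
  have : Fact (Nat.Prime 2) := ⟨Nat.prime_two⟩
  have hSN : (S : Subgroup G) ≤ normalizer ((o2 (centralizer (V : Set G)) : Subgroup G) : Set G) := fun s hs =>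
    cj_eq_iff.1 (o2_conj_of_norm (h.PN (h.SP hs)))
  have h1 : IsPGroup 2 ((S : Subgroup G) ⊔ o2 (centralizer (V : Set G)) : Subgroup G) :=
    S.isPGroup'.to_sup_of_normal_right' (o2_isPGroup _) hSN
  have h2 := S.is_maximal' h1 le_sup_left
  have h3 : o2 (centralizer (V : Set G)) ≤ (S : Subgroup G) := by
    rw [← h2]
    exact le_sup_right
  rw [h.B_eq]
  exact le_inf h3 ((o2_le _).trans (centralizer_le h.ZV))

/-- the image of `B ≤ O₂(C_G(V))` is in `O₂(C_H(lam))` -/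
theorem img_le {B : Subgroup G} (hB : Off V V Z B) :
    img r (Off.le_cent h hB) ≤ o2 (fixer ((V.subgroupOf (ws V Z)).map (ph r))) := by
  have hC : o2 (centralizer (V : Set G)) ≤ centralizer (Z : Set G) := (o2_le _).trans (centralizer_le h.ZV)
  have h1 : img r (Off.le_cent h hB) ≤ img r hC := by
    intro x hx
    obtain ⟨b, hb, rfl⟩ := (mem_img r).1 hx
    exact mem_img_of r (hB.le hb)
  refine h1.trans (le_o2 ?_ ?_ ?_)
  · intro x hx m hm
    obtain ⟨b, hb, rfl⟩ := (mem_img r).1 hx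
    obtain ⟨v, hv, rfl⟩ := (ph_V_mem h r).1 hm
    rw [← r.act b (hC hb) v (h.V_le_ws h.ZV hv)]
    congr 1
    rw [← mem_centralizer_iff.1 (o2_le _ hb) v hv, mul_inv_cancel_right]
  · exact IsPGroup.of_surjective (o2_isPGroup (centralizer (V : Set G))) ((rh r).comp (inclusion hC)).rangeRestrict
      (MonoidHom.rangeRestrict_surjective _)
  · refine mem_normalizer_of_conj fun x hx y hy => ?_
    obtain ⟨a, ha, rfl, haN, -⟩ := lift_fixer h r hx
    obtain ⟨b, hb, rfl⟩ := (mem_img r).1 hy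
    rw [← rho_inv r ha, ← r.mulρ a ha b (hC hb), ← r.mulρ _ (mul_mem ha (hC hb)) _ (inv_mem ha)]
    refine mem_img_of r ?_
    rw [← o2_conj_of_norm haN]
    exact conj_mem_cj hb

/-- the image of `B₀` -/
def tt : Subgroup H := img r h.B_le

omit h in
theorem finite_H (r : Real V Z ρ π) : Finite H := by
  refine Finite.of_surjective (fun a : centralizer (Z : Set G) => ρ a) fun x => ?_
  obtain ⟨a, ha, hx⟩ := r.surjρ x
  exact ⟨⟨a, ha⟩, hx⟩

/-- `N_H(T)` comes from `N_G(V)` -/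
theorem norm_V (hf : kx V Z ≤ centralizer (V : Set G))
    {a : G}
    (ha : a ∈ centralizer (Z : Set G)) (hx : ρ a ∈ normalizer (tt h r : Set H)) : a ∈ normalizer (V : Set G) := by
  -- the preimage of `T`
  let N : Subgroup G := ((tt h r).comap (rh r)).map (centralizer (Z : Set G)).subtype
  have hNm : ∀ b, b ∈ N ↔ b ∈ centralizer (Z : Set G) ∧ ρ b ∈ tt h r := by
    intro b
    constructor
    · rintro ⟨c, hc, rfl⟩
      exact ⟨c.2, hc⟩
    · rintro ⟨hb, hb'⟩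
      exact ⟨⟨b, hb⟩, hb', rfl⟩
  have hSN : B₀ ≤ N := fun s hs => (hNm s).2 ⟨h.B_le hs, mem_img_of r hs⟩
  have hSN' : cj a B₀ ≤ N := by
    intro b hb
    have hb' : a⁻¹ * b * a ∈ B₀ := mem_cj.1 hb
    have h1 := (hNm _).2 ⟨h.B_le hb', mem_img_of r hb'⟩
    have h2 : b = a * (a⁻¹ * b * a) * a⁻¹ := by group
    have h3 : b ∈ centralizer (Z : Set G) := by
      rw [h2]
      exact mul_mem (mul_mem ha (h.B_le hb')) (inv_mem ha)
    refine (hNm b).2 ⟨h3, ?_⟩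
    have h4 := (mem_normalizer_iff.1 hx (ρ (a⁻¹ * b * a))).1 (mem_img_of r hb')
    rw [← rho_inv r ha, ← r.mulρ a ha _ (h.B_le hb'), ← r.mulρ _ (mul_mem ha (h.B_le hb')) _ (inv_mem ha),
      ← h2] at h4
    exact h4
  have hNV : N ≤ normalizer (V : Set G) := by
    intro b hb
    obtain ⟨hb1, hb2⟩ := (hNm b).1 hb
    obtain ⟨s, hs, hsb⟩ := (mem_img r).1 hb2
    have hsC := h.B_le hs
    have h1 : s⁻¹ * b ∈ kx V Z := by
      rw [← r.kerρ _ (mul_mem (inv_mem hsC) hb1), r.mulρ _ (inv_mem hsC) _ hb1, rho_inv r hsC, hsb,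
        inv_mul_cancel]
    have h2 : b = s * (s⁻¹ * b) := by group
    rw [h2]
    exact mul_mem (h.PN (h.BP hs)) (centralizer_le_normalizer _ (hf h1))
  obtain ⟨m, hm, h1⟩ := h.exists_conj hSN (fun b hb => ((hNm b).1 hb).1) hSN'
  have h2 : m⁻¹ * a ∈ normalizer (B₀ : Set G) := by
    rw [← cj_eq_iff, ← cj_cj, ← h1, cj_cj, inv_mul_cancel, cj_one]
  have h3 : a = m * (m⁻¹ * a) := by group
  rw [h3]
  exact mul_mem (hNV hm) (h.NB h2)

omit [Finite G] h r in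
theorem le_of_index_le {W : Type*} [Group W] [Finite W] {D C : Subgroup W} (hDC : D ≤ C)
    (he : D.index ≤ C.index) : C ≤ D := by
  have h1 := relIndex_mul_index hDC
  have h2 : C.index ≠ 0 := index_ne_zero_of_finite
  have h3 : D.relIndex C ≠ 0 := by
    rw [relIndex]
    exact index_ne_zero_of_finite
  have h4 : D.relIndex C * C.index ≤ 1 * C.index := by rw [one_mul, h1]; exact he
  have h5 := Nat.le_of_mul_le_mul_right h4 (Nat.pos_of_ne_zero h2)
  exact relIndex_eq_one.1 (by omega)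

/-- **The contradiction at the base flag.** -/
theorem false_base (hf : kx V Z ≤ centralizer (V : Set G))
    {B : Subgroup G} (hB : Off V V Z B)
    (hne : ¬ B ≤ centralizer (ws V Z : Set G))
    (hle : (centralizer (B : Set G)).relIndex (ws V Z) ≤ (centralizer (ws V Z : Set G)).relIndex B)
    (hNO : ∀ A : Subgroup H, A ≤ o2 (fixer ((V.subgroupOf (ws V Z)).map (ph r))) →
      (∀ a ∈ A, ∀ b ∈ A, a * b = b * a) → (∀ a ∈ A, a * a = 1) →
      (∀ a ∈ A, ∀ b ∈ A, ∀ m : M, b • ((a • m) * m⁻¹) = (a • m) * m⁻¹) → Nat.card A ≤ (zm M A).index)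
    {Pi : Set (Subgroup H)} (hK : PSf (tt h r) ((V.subgroupOf (ws V Z)).map (ph r)) Pi) : False := by
  have hBC := Off.le_cent h hB
  set A := img r hBC with hA
  have hkc := kx_le h hf
  have hke := kx_eq h hf
  have hcard : Nat.card A = (centralizer (ws V Z : Set G)).relIndex B := by rw [hA, card_img r hBC, hke]
  have hcomm : ∀ a ∈ A, ∀ b ∈ A, a * b = b * a := by
    intro x hx y hy
    obtain ⟨a, ha, rfl⟩ := (mem_img r).1 hx
    obtain ⟨b, hb, rfl⟩ := (mem_img r).1 hy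
    rw [← r.mulρ _ (hBC ha) _ (hBC hb), ← r.mulρ _ (hBC hb) _ (hBC ha), hB.comm a ha b hb]
  have hsq : ∀ a ∈ A, a * a = 1 := by
    intro x hx
    obtain ⟨a, ha, rfl⟩ := (mem_img r).1 hx
    rw [← r.mulρ _ (hBC ha) _ (hBC ha), hB.sq a ha, rho_one r]
  have hact : ∀ a ∈ B, ∀ w ∈ ws V Z, (ρ a • π w) * (π w)⁻¹ = π (a * w * a⁻¹ * w⁻¹) := by
    intro a ha w hw
    rw [← r.act a (hBC ha) w hw, ← pi_inv r hw, ← r.mulπ _ (cent_conj r (hBC ha) hw) _ (inv_mem hw)]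
  have hcW : ∀ a ∈ B, ∀ w ∈ ws V Z, a * w * a⁻¹ * w⁻¹ ∈ ws V Z := fun a ha w hw =>
    mul_mem (cent_conj r (hBC ha) hw) (inv_mem hw)
  have hquad : ∀ a ∈ A, ∀ b ∈ A, ∀ m : M, b • ((a • m) * m⁻¹) = (a • m) * m⁻¹ := by
    intro x hx y hy m
    obtain ⟨a, ha, rfl⟩ := (mem_img r).1 hx
    obtain ⟨b, hb, rfl⟩ := (mem_img r).1 hy
    obtain ⟨w, hw, rfl⟩ := r.surjπ m
    rw [hact a ha w hw, ← r.act b (hBC hb) _ (hcW a ha w hw), hB.comm b hb _ (hB.nor a ha w hw),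
      mul_inv_cancel_right]
  have hAle : A ≤ o2 (fixer ((V.subgroupOf (ws V Z)).map (ph r))) := img_le h r hB
  have h1 := hNO A hAle hcomm hsq hquad
  have hsurj : Function.Surjective (ph r) := fun m => by
    obtain ⟨w, hw, rfl⟩ := r.surjπ m
    exact ⟨⟨w, hw⟩, rfl⟩
  have h2 := index_comap_of_surjective (zm M A) hsurj
  have h3 : (centralizer (B : Set G)).subgroupOf (ws V Z) ≤ (zm M A).comap (ph r) := by
    intro w hw
    rw [mem_comap, mem_cv]
    intro x hx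
    obtain ⟨a, ha, rfl⟩ := (mem_img r).1 hx
    have h4 := hact a ha w w.2
    have h5 : a * w * a⁻¹ * (w : G)⁻¹ = 1 := by
      have h6 := mem_centralizer_iff.1 (mem_subgroupOf.1 hw) a ha
      rw [h6, mul_inv_cancel_right, mul_inv_cancel]
    rw [h5] at h4
    have h7 : π 1 = 1 := (ph r).map_one
    rw [h7, mul_inv_eq_one] at h4
    exact h4
  have h4 : ((zm M A).comap (ph r)).index ≤ ((centralizer (B : Set G)).subgroupOf (ws V Z)).index :=
    Nat.le_of_dvd (Nat.pos_of_ne_zero index_ne_zero_of_finite) (index_dvd_of_le h3)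
  have h5 : ((centralizer (B : Set G)).subgroupOf (ws V Z)).index ≤ Nat.card A := by
    rw [hcard]; exact hle
  have h6 : (zm M A).comap (ph r) ≤ (centralizer (B : Set G)).subgroupOf (ws V Z) :=
    le_of_index_le h3 (by omega)
  have hex : Exact ((V.subgroupOf (ws V Z)).map (ph r)) A := by
    refine ⟨fun e => hne fun b hb => ?_, hAle, hcomm, hsq, hquad, by omega⟩
    have h7 : ρ b ∈ A := mem_img_of r hb
    rw [e, mem_bot] at h7
    exact hkc ((r.kerρ b (hBC hb)).1 h7)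
  obtain ⟨J, hJ⟩ := hK.kdat hex
  -- the action on `W`
  choose σ hσ1 hσ2 using r.surjρ
  let _ : CommGroup (ws V Z) :=
    { (inferInstance : Group (ws V Z)) with
      mul_comm := fun a b => Subtype.ext (mem_centralizer_iff.1 (h.Wcomm b.2) a a.2) }
  let _ : MulDistribMulAction H (ws V Z) :=
    { smul := fun x w => ⟨σ x * w * (σ x)⁻¹, cent_conj r (hσ1 x) w.2⟩
      one_smul := fun w => Subtype.ext (by
        show σ 1 * (w : G) * (σ 1)⁻¹ = w
        rw [eq_of_rho r (hσ1 1) (one_mem _) hkc ((hσ2 1).trans (rho_one r).symm) w.2]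
        group)
      mul_smul := fun x y w => Subtype.ext (by
        show σ (x * y) * (w : G) * (σ (x * y))⁻¹ = σ x * (σ y * w * (σ y)⁻¹) * (σ x)⁻¹
        rw [eq_of_rho r (hσ1 (x * y)) (mul_mem (hσ1 x) (hσ1 y)) hkc
          (by rw [hσ2, r.mulρ _ (hσ1 x) _ (hσ1 y), hσ2, hσ2]) w.2]
        group)
      smul_mul := fun x w w' => Subtype.ext (by
        show σ x * ((w : G) * w') * (σ x)⁻¹ = σ x * w * (σ x)⁻¹ * (σ x * w' * (σ x)⁻¹)
        group)
      smul_one := fun x => Subtype.ext (by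
        show σ x * (1 : G) * (σ x)⁻¹ = 1
        group) }
  have hsm : ∀ a ∈ centralizer (Z : Set G), ∀ w : ws V Z, ((ρ a • w : ws V Z) : G) = a * w * a⁻¹ := by
    intro a ha w
    show σ (ρ a) * (w : G) * (σ (ρ a))⁻¹ = a * w * a⁻¹
    exact eq_of_rho r (hσ1 _) ha hkc (hσ2 _) w.2
  have D : FOneAbs.Dat (tt h r) (V.subgroupOf (ws V Z)) (Z.subgroupOf (ws V Z)) (ph r) := by
    refine ⟨finite_H r, fun w => r.kerπ w w.2, ?_, ?_, ?_, ?_, ?_, ?_, ?_⟩
    · intro x w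
      show π (σ x * w * (σ x)⁻¹) = x • π w
      rw [r.act _ (hσ1 x) w w.2, hσ2]
    · intro x w hw
      refine Subtype.ext ?_
      show σ x * (w : G) * (σ x)⁻¹ = w
      rw [← mem_centralizer_iff.1 (hσ1 x) w hw, mul_inv_cancel_right]
    · intro t ht v hv
      obtain ⟨s, hs, rfl⟩ := (mem_img r).1 ht
      rw [mem_subgroupOf]
      show ((ρ s • v : ws V Z) : G) * (v : G)⁻¹ ∈ Z
      rw [hsm s (h.B_le hs)]
      exact h.act s hs v hv
    · intro w hw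
      exact h.ZV hw
    · intro t ht v hv hvZ e u hu
      obtain ⟨s, hs, rfl⟩ := (mem_img r).1 ht
      have e1 := congrArg Subtype.val e
      rw [hsm s (h.B_le hs)] at e1
      refine Subtype.ext ?_
      rw [hsm s (h.B_le hs)]
      have e2 := h.free s hs v hv (fun e => hvZ e) (mul_inv_eq_iff_eq_mul.1 e1) u hu
      rw [e2, mul_inv_cancel_right]
    · obtain ⟨Y, hY, hYV, hYne⟩ := h.exists_second h.isCj_self h.ZV
      obtain ⟨v, hv, hv1⟩ := h.pt_ne_bot hY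
      have hvZ : v ∉ Z := fun e => hYne (h.pts_eq hY h.isCj_self hv e hv1)
      obtain ⟨z, hz, hz1⟩ := h.pt_ne_bot h.isCj_self
      obtain ⟨s, hs, hsz⟩ := h.full v (hYV hv) hvZ z hz
      refine ⟨ρ s, mem_img_of r hs, ⟨v, h.V_le_ws h.ZV (hYV hv)⟩, hYV hv, fun e => hz1 ?_⟩
      have e1 := congrArg Subtype.val e
      rw [hsm s (h.B_le hs)] at e1
      rw [← hsz, mul_inv_eq_one]
      exact e1
    · intro x hx v hv
      have h7 := norm_V h r hf (hσ1 x) (by rw [hσ2]; exact hx)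
      rw [mem_subgroupOf]
      show σ x * (v : G) * (σ x)⁻¹ ∈ V
      exact (mem_normalizer_iff.1 h7 v).1 hv
  refine D.false_of hJ ?_ ?_
  · intro x hx
    obtain ⟨b, hb, rfl⟩ := (mem_img r).1 hx
    exact mem_img_of r (o2_le_B h (hB.le hb))
  · intro w hw x hx
    obtain ⟨b, hb, rfl⟩ := (mem_img r).1 hx
    have h7 : w ∈ (zm M A).comap (ph r) := by
      rw [mem_comap, mem_cv]
      exact hw
    have h8 := mem_centralizer_iff.1 (mem_subgroupOf.1 (h6 h7)) b hb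
    refine Subtype.ext ?_
    rw [hsm b (hBC hb), h8, mul_inv_cancel_right]

/-! ### Critical pairs -/

omit r

/-- `W_x` at the last flag of the walk from `x` to `y` -/
theorem off_of_crit {n : ℕ} (hn : 1 ≤ n) {x y : Pt Z}
    (hc : Crit (PtGeom.inc (Z := Z) (V := V)) (fun x : Pt Z => ws V x.sg) n x y) :
    ∃ g : G, y.sg = cj g Z ∧ Off V (cj g V) (cj g Z) (ws V x.sg) := by
  have D := FOneGeo.geo h
  obtain ⟨c, l, hw, hcl, hyl⟩ := hc.last hn
  obtain ⟨c', l', hw', hcl', hxl'⟩ := hc.symm.last hn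
  obtain ⟨g, hg1, hg2⟩ := exists_conj_flag h y.isCj l.isCj hyl
  refine ⟨g, hg1, ?_⟩
  rw [← hg1, ← hg2]
  have hcom : Com (fun x : Pt Z => ws V x.sg) x c := hc.com_last hn hw
  have hcom' : Com (fun x : Pt Z => ws V x.sg) y c' := hc.symm.com_last hn hw'
  refine ⟨D.low_line hc.min hw (by omega) hcom hcl, D.comm x, D.sq x, fun b hb w hw1 => ?_⟩
  have h1 : w • x = x := D.fix_of_centralizes fun a ha =>
    hcom' w hw1 a (D.V_le c' l' hcl' (D.R_le x l' hxl' ha))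
  have e : b * w * b⁻¹ * w⁻¹ = b * (w * b⁻¹ * w⁻¹) := by group
  rw [e]
  exact mul_mem hb (D.norm_W h1 (inv_mem hb))

omit h [Finite G] in
theorem cent_relIndex_conj (g : G) (A B : Subgroup G) :
    (centralizer ((cj g A : Subgroup G) : Set G)).relIndex (cj g B) = (centralizer (A : Set G)).relIndex B := by
  rw [← cj_centralizer]
  exact relIndex_pointwise_smul _ _ _

include r

/-- the inequality at the base flag -/
theorem relIndex_le (hf : kx V Z ≤ centralizer (V : Set G)) {B : Subgroup G} (hB : Off V V Z B)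
    (hNO : ∀ A : Subgroup H, A ≤ o2 (fixer ((V.subgroupOf (ws V Z)).map (ph r))) →
      (∀ a ∈ A, ∀ b ∈ A, a * b = b * a) → (∀ a ∈ A, a * a = 1) →
      (∀ a ∈ A, ∀ b ∈ A, ∀ m : M, b • ((a • m) * m⁻¹) = (a • m) * m⁻¹) → Nat.card A ≤ (zm M A).index) :
    (centralizer (ws V Z : Set G)).relIndex B ≤ (centralizer (B : Set G)).relIndex (ws V Z) := by
  have hBC := Off.le_cent h hB
  set A := img r hBC with hA
  have hke := kx_eq h hf
  have hcard : Nat.card A = (centralizer (ws V Z : Set G)).relIndex B := by rw [hA, card_img r hBC, hke]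
  have hcomm : ∀ a ∈ A, ∀ b ∈ A, a * b = b * a := by
    intro x hx y hy
    obtain ⟨a, ha, rfl⟩ := (mem_img r).1 hx
    obtain ⟨b, hb, rfl⟩ := (mem_img r).1 hy
    rw [← r.mulρ _ (hBC ha) _ (hBC hb), ← r.mulρ _ (hBC hb) _ (hBC ha), hB.comm a ha b hb]
  have hsq : ∀ a ∈ A, a * a = 1 := by
    intro x hx
    obtain ⟨a, ha, rfl⟩ := (mem_img r).1 hx
    rw [← r.mulρ _ (hBC ha) _ (hBC ha), hB.sq a ha, rho_one r]
  have hact : ∀ a ∈ B, ∀ w ∈ ws V Z, (ρ a • π w) * (π w)⁻¹ = π (a * w * a⁻¹ * w⁻¹) := by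
    intro a ha w hw
    rw [← r.act a (hBC ha) w hw, ← pi_inv r hw, ← r.mulπ _ (cent_conj r (hBC ha) hw) _ (inv_mem hw)]
  have hcW : ∀ a ∈ B, ∀ w ∈ ws V Z, a * w * a⁻¹ * w⁻¹ ∈ ws V Z := fun a ha w hw =>
    mul_mem (cent_conj r (hBC ha) hw) (inv_mem hw)
  have hquad : ∀ a ∈ A, ∀ b ∈ A, ∀ m : M, b • ((a • m) * m⁻¹) = (a • m) * m⁻¹ := by
    intro x hx y hy m
    obtain ⟨a, ha, rfl⟩ := (mem_img r).1 hx
    obtain ⟨b, hb, rfl⟩ := (mem_img r).1 hy
    obtain ⟨w, hw, rfl⟩ := r.surjπ m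
    rw [hact a ha w hw, ← r.act b (hBC hb) _ (hcW a ha w hw), hB.comm b hb _ (hB.nor a ha w hw),
      mul_inv_cancel_right]
  have h1 := hNO A (img_le h r hB) hcomm hsq hquad
  have hsurj : Function.Surjective (ph r) := fun m => by
    obtain ⟨w, hw, rfl⟩ := r.surjπ m
    exact ⟨⟨w, hw⟩, rfl⟩
  have h2 := index_comap_of_surjective (zm M A) hsurj
  have h3 : (centralizer (B : Set G)).subgroupOf (ws V Z) ≤ (zm M A).comap (ph r) := by
    intro w hw
    rw [mem_comap, mem_cv]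
    intro x hx
    obtain ⟨a, ha, rfl⟩ := (mem_img r).1 hx
    have h4 := hact a ha w w.2
    have h5 : a * w * a⁻¹ * (w : G)⁻¹ = 1 := by
      have h6 := mem_centralizer_iff.1 (mem_subgroupOf.1 hw) a ha
      rw [h6, mul_inv_cancel_right, mul_inv_cancel]
    rw [h5] at h4
    have h7 : π 1 = 1 := (ph r).map_one
    rw [h7, mul_inv_eq_one] at h4
    exact h4
  have h4 : ((zm M A).comap (ph r)).index ≤ ((centralizer (B : Set G)).subgroupOf (ws V Z)).index :=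
    Nat.le_of_dvd (Nat.pos_of_ne_zero index_ne_zero_of_finite) (index_dvd_of_le h3)
  rw [← hcard]
  exact h1.trans (h2.ge.trans h4)

/-- **(F1) for `q ≥ 4`.** -/
theorem hf_of {n : ℕ} (hn : 1 ≤ n)
    {x y : Pt Z} (hc : Crit (PtGeom.inc (Z := Z) (V := V)) (fun x : Pt Z => ws V x.sg) n x y)
    {T : Subgroup H} (hT : ∀ x, x ∈ T ↔ ∃ s ∈ B₀, ρ s = x)
    {lam : Subgroup M} (hlam : ∀ m, m ∈ lam ↔ ∃ v ∈ V, π v = m)
    (hNO : ∀ A : Subgroup H, A ≤ o2 (fixer lam) →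
      (∀ a ∈ A, ∀ b ∈ A, a * b = b * a) → (∀ a ∈ A, a * a = 1) →
      (∀ a ∈ A, ∀ b ∈ A, ∀ m : M, b • ((a • m) * m⁻¹) = (a • m) * m⁻¹) → Nat.card A ≤ (zm M A).index)
    {Pi : Set (Subgroup H)} (hK : PSf T lam Pi) : ¬ kx V Z ≤ centralizer (V : Set G) := by
  intro hf
  obtain rfl : T = tt h r := by
    ext x
    rw [hT]
    exact (mem_img r).symm
  obtain rfl : lam = (V.subgroupOf (ws V Z)).map (ph r) := by
    ext m
    rw [hlam, ph_V_mem h r]
  obtain ⟨g, hg, hB⟩ := off_of_crit h hn hc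
  obtain ⟨g', hg', hB'⟩ := off_of_crit h hn hc.symm
  have hb := hB.conj g⁻¹
  have hb' := hB'.conj g'⁻¹
  rw [cj_cj, cj_cj, inv_mul_cancel, cj_one, cj_one] at hb hb'
  have h1 := relIndex_le h r hf hb' hNO
  -- `|W_y : C(W_x)| ≤ |W_x : C(W_y)|`
  have e1 : cj g (cj g⁻¹ (ws V x.sg)) = ws V x.sg := by rw [cj_cj, mul_inv_cancel, cj_one]
  have e2 : cj g' (cj g'⁻¹ (ws V y.sg)) = ws V y.sg := by rw [cj_cj, mul_inv_cancel, cj_one]
  have e3 : ws V y.sg = cj g (ws V Z) := by rw [hg, ws_cj]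
  have e4 : ws V x.sg = cj g' (ws V Z) := by rw [hg', ws_cj]
  rw [← cent_relIndex_conj g' (ws V Z), ← cent_relIndex_conj g' (cj g'⁻¹ (ws V y.sg)), e2, ← e4] at h1
  refine false_base h r hf hb ?_ ?_ hNO hK
  · intro hcon
    apply hc.ne
    intro a ha b hbm
    have h2 : ws V x.sg ≤ centralizer (ws V y.sg : Set G) := by
      rw [← e1, e3, ← cj_centralizer, cj_le_cj]
      exact hcon
    exact (mem_centralizer_iff.1 (h2 ha) b hbm).symm
  · rw [← cent_relIndex_conj g (ws V Z), ← cent_relIndex_conj g (cj g⁻¹ (ws V x.sg)), e1, ← e3]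
    exact h1

end main

end Cfsg.Agent.Omega.NO3S.FarB.FOne

end

section


/-!
# NO-3S, `q ≥ 4`: the instance of `RD` over the `(R, B)`-frame (copy of `FarQ/Real.lean`)

* `exists_rd` : `PB S B P V Z`, (F1), (T6) and `|Z| ≥ 4` give `RD` at the base flag `(Z, V)`.
-/

set_option autoImplicit false
set_option linter.unusedSectionVars false

namespace Cfsg.Agent.Omega.NO3S.FarB

open Subgroup Cfsg Cfsg.Agent.ZN Cfsg.Agent.MinSimple.VModule Cfsg.Agent.Omega.NOThree.Pts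
open Cfsg.Agent.Omega.NO3S.FarQ
open Cfsg.Agent.Omega.NO3S.FarQ.Glue Cfsg.Agent.Omega.NO3S.PT Cfsg.Agent.Omega.NO3S.PtGeom
open Cfsg.Agent.Omega.NO3S.PB.Geom
open scoped Pointwise

universe u

variable {G : Type u} [Group G]

section

variable [Finite G] {S : Sylow 2 G} {B P V Z : Subgroup G} (h : PB S B P V Z)
include h

theorem line_base {X : Subgroup G} (hX : IsCj Z X) (hXV : X ≤ V) (hne : X ≠ Z) {v : G} (hv : v ∈ V) :
    ∃ r ∈ Z, ∃ r' ∈ X, v = r * r' := h.exists_mul h.isCj_self h.ZV hX hXV hne.symm hv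

set_option maxHeartbeats 1000000 in
/-- **The instance.** -/
theorem exists_rd (hf : ¬ kx V Z ≤ centralizer (V : Set G)) (hO : OmB B V)
    (hq : 4 ≤ Nat.card Z) :
    ∃ (H M K : Type u) (_ : Group H) (_ : CommGroup M) (_ : MulDistribMulAction H M) (_ : CommGroup K)
      (ρ : G → H) (π : G → M) (ζ : K →* G) (T : Subgroup H) (lam U : Subgroup M) (Kh : Subgroup (M →* K)),
      RD (inc (Z := Z) (V := V)) (fun x => x.sg) (fun x => ws V x.sg) (fun l => l.sg) (Pt.base Z) (Pt.base V)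
        B ρ π ζ T lam U Kh := by
  have D := PB.Geom.geom h hf hO
  have hWn := normalizer_le_ws V Z
  have hCn : centralizer (Z : Set G) ≤ normalizer (Z : Set G) := centralizer_le_normalizer _
  have hWcomm : ∀ a ∈ ws V Z, ∀ b ∈ ws V Z, a * b = b * a := fun a ha b hb =>
    (mem_centralizer_iff.1 (h.Wcomm ha) b hb).symm
  obtain ⟨H, M, iH, iM, iA, ρ, π, hρm, hρs, hρk, hπm, hπs, hπk, hact⟩ := exists_mod (C := centralizer (Z : Set G))
    (W := ws V Z) (R := Z) (fun c hc w hw => (mem_normalizer_iff.1 (hWn (hCn hc)) w).1 hw)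
    (fun c hc w hw => (mem_normalizer_iff.1 (hCn hc) w).1 hw) hWcomm
  obtain ⟨K, iK, ζ, hinj, hran⟩ := exists_group (Z := Z) fun a ha b hb => h.Vcomm (h.ZV ha) (h.ZV hb)
  have Re : Four.Real (fun x : Pt Z => x.sg) (fun x => ws V x.sg) (Pt.base Z) ρ π :=
    ⟨hρm, hρs, hρk, hπm, hπs, hπk, hact⟩
  have hran' : ∀ g, g ∈ (fun x : Pt Z => x.sg) (Pt.base Z) ↔ ∃ r, ζ r = g := hran
  have hVW : V ≤ ws V Z := h.V_le_ws h.ZV
  have hS : B ≤ centralizer (Z : Set G) := h.B_le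
  have hcen : ∀ {k}, k ∈ centralizer (Z : Set G) → ∀ z ∈ Z, k * z = z * k := fun hk z hz =>
    (mem_centralizer_iff.1 hk z hz).symm
  have hcm : ∀ {g w : G}, g ∈ centralizer (Z : Set G) → w ∈ ws V Z →
      (g * w * g⁻¹ * w⁻¹ ∈ Z ↔ ρ g • π w = π w) := fun hg hw => comm_mem_iff Re D hg hw
  let T : Subgroup H := im Re B hS
  let lam : Subgroup M := pim Re V hVW
  let U : Subgroup M := pim Re (IV V Z) h.IV_le_ws
  let Kh : Subgroup (M →* K) := khat (W := fun x : Pt Z => ws V x.sg) π hran'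
  have hlam : ∀ m, m ∈ lam ↔ ∃ v ∈ V, π v = m := fun m => Iff.rfl
  have hlam1 : ∀ v ∈ V, π v ≠ 1 → v ∉ Z := fun v hv hv1 hvZ => hv1 ((hπk v (hVW hv)).2 hvZ)
  have hKx : ∀ k ∈ kx V Z, k ∈ centralizer (Z : Set G) ∧ ∀ w ∈ ws V Z, k * w * k⁻¹ * w⁻¹ ∈ Z := fun k hk =>
    ⟨kx_le_cent hk, (mem_kx.1 hk).2⟩
  have hexK : ∀ k ∈ kx V Z, ∃ φ ∈ Kh, ∀ w ∈ ws V Z, k * w * k⁻¹ * w⁻¹ = ζ (φ (π w)) := fun k hk =>
    exists_khat Re hran' D hinj h.Z_le_ws (hKx k hk).1 (hKx k hk).2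
  have hfinH : Finite H := Finite.of_surjective ρ fun x => by
    obtain ⟨g, -, hg⟩ := hρs x
    exact ⟨g, hg⟩
  have hfinM : Finite M := Finite.of_surjective π fun x => by
    obtain ⟨g, -, hg⟩ := hπs x
    exact ⟨g, hg⟩
  -- cardinality of `lam`
  have hcard : Nat.card lam = Nat.card Z := by
    let φ : V →* M := MonoidHom.mk' (fun a => π a) (fun a b => hπm a (hVW a.2) b (hVW b.2))
    have h1 := Subgroup.card_mul_index φ.ker
    rw [Subgroup.index_ker] at h1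
    have h2 : φ.range = lam := by
      ext m
      constructor
      · rintro ⟨a, rfl⟩
        exact ⟨a, a.2, rfl⟩
      · rintro ⟨a, ha, rfl⟩
        exact ⟨⟨a, ha⟩, rfl⟩
    have h3 : Nat.card φ.ker = Nat.card Z := by
      refine Nat.card_congr ⟨fun x => ⟨x, ?_⟩, fun x => ⟨⟨x, h.ZV x.2⟩, ?_⟩, fun x => rfl, fun x => rfl⟩
      · exact (hπk _ (hVW x.1.2)).1 x.2
      · exact (hπk _ (hVW (h.ZV x.2))).2 x.2
    rw [h2, h3, h.card] at h1
    exact Nat.eq_of_mul_eq_mul_left Nat.card_pos h1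
  have hcardK : Nat.card K = Nat.card Z := by
    refine Nat.card_congr ⟨fun x => ⟨ζ x, (hran _).2 ⟨x, rfl⟩⟩, fun x => ((hran _).1 x.2).choose,
      fun x => ?_, fun x => ?_⟩
    · exact hinj ((hran (ζ x)).1 ((hran _).2 ⟨x, rfl⟩)).choose_spec
    · exact Subtype.ext ((hran _).1 x.2).choose_spec
  have hflag : Flag T lam U Kh := by
    refine ⟨hfinH, hfinM, ?_, ?_, hcardK.trans hcard.symm, ?_, ?_, ?_, hcard.symm ▸ hq, ?_, ?_, ?_, ?_, ?_, ?_,
      ?_, ?_, ?_⟩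
    · -- sq
      intro m
      obtain ⟨w, hw, rfl⟩ := hπs m
      rw [← hπm w hw w hw, h.ws_sq w hw]
      exact π_one Re
    · -- sqR
      intro r
      apply hinj
      rw [map_mul, map_one]
      exact h.Vsq _ (h.ZV ((hran _).2 ⟨r, rfl⟩))
    · -- faith
      intro x hx
      obtain ⟨g, hg, rfl⟩ := hρs x
      exact (hρk g hg).2 fun w hw => (hcm hg hw).2 (hx _)
    · -- two
      rintro ⟨_, s, hs, rfl⟩
      obtain ⟨k, hk⟩ := h.isPGroup_B ⟨s, hs⟩
      have hk' : s ^ 2 ^ k = 1 := congrArg Subtype.val hk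
      refine ⟨k, Subtype.ext ?_⟩
      show ρ s ^ 2 ^ k = 1
      have hpow : ∀ j : ℕ, ρ (s ^ j) = ρ s ^ j := by
        intro j
        induction j with
        | zero => rw [pow_zero, pow_zero, Re.one]
        | succ j ih => rw [pow_succ, pow_succ, hρm _ (pow_mem (hS hs) j) _ (hS hs), ih]
      rw [← hpow, hk', Re.one]
    · -- ndvd
      have : Fact (Nat.Prime 2) := ⟨Nat.prime_two⟩
      let f : centralizer (Z : Set G) →* H := MonoidHom.mk' (fun a => ρ a) (fun a b => hρm a a.2 b b.2)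
      have hfs : Function.Surjective f := fun x => by
        obtain ⟨g, hg, rfl⟩ := hρs x
        exact ⟨⟨g, hg⟩, rfl⟩
      obtain ⟨TB, hTB⟩ := h.exists_syl hS le_rfl
      let T' : Sylow 2 H := TB.mapSurjective hfs
      have hT' : (T' : Subgroup H) = T := by
        ext x
        have hx : x ∈ (T' : Subgroup H) ↔ x ∈ (TB : Subgroup (centralizer (Z : Set G))).map f := Iff.rfl
        rw [hx, hTB]
        constructor
        · rintro ⟨g, hg, rfl⟩
          exact ⟨g, mem_subgroupOf.1 hg, rfl⟩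
        · rintro ⟨g, hg, rfl⟩
          exact ⟨⟨g, hS hg⟩, mem_subgroupOf.2 hg, rfl⟩
      rw [← hT']
      exact T'.not_dvd_index
    · -- fix
      rintro _ ⟨s, hs, rfl⟩ _ ⟨v, hv, rfl⟩
      exact (hcm (hS hs) (hVW hv)).1 (h.act s hs v hv)
    · -- norm
      rintro x hx _ ⟨v, hv, rfl⟩
      obtain ⟨g, hg, rfl⟩ := hρs x
      have hSK : B ≤ normalizer ((kx V Z : Subgroup G) : Set G) :=
        h.B_le_N.trans (normalizer_le_kx V Z)
      have h1 : cj g B ≤ kx V Z ⊔ B := by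
        intro y hy
        rw [mem_cj] at hy
        have hyC : y ∈ centralizer (Z : Set G) := by
          have := mul_mem (mul_mem hg (hS hy)) (inv_mem hg)
          have e : g * (g⁻¹ * y * g) * g⁻¹ = y := by group
          rwa [e] at this
        have h2 : ρ g * ρ (g⁻¹ * y * g) * (ρ g)⁻¹ ∈ T := (mem_normalizer_iff.1 hx _).1 ⟨_, hy, rfl⟩
        have h3 : ρ g * ρ (g⁻¹ * y * g) * (ρ g)⁻¹ = ρ y := by
          have h4 := Re.conj hg (hS hy)
          rw [← h4]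
          congr 1; group
        rw [h3] at h2
        obtain ⟨s, hs, hs'⟩ := h2
        have h5 : y * s⁻¹ ∈ kx V Z := by
          have h6 : ρ (y * s⁻¹) = 1 := by
            rw [hρm y hyC s⁻¹ (inv_mem (hS hs)), Re.inv (hS hs), hs', mul_inv_cancel]
          have h7 := (hρk _ (mul_mem hyC (inv_mem (hS hs)))).1 h6
          exact mem_kx.2 ⟨fun z hz => hcen (mul_mem hyC (inv_mem (hS hs))) z hz, h7⟩
        have h8 : y = y * s⁻¹ * s := by group
        rw [h8]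
        exact mul_mem (mem_sup_left h5) (mem_sup_right hs)
      obtain ⟨b, hb, hbS⟩ := h.exists_conj (H := kx V Z ⊔ B) le_sup_right
        (sup_le (fun x hx => (hKx x hx).1) hS) h1
      rw [← SetLike.mem_coe, coe_mul_of_right_le_normalizer_left _ _ hSK] at hb
      obtain ⟨k, hk, s, hs, rfl⟩ := hb
      have h2 : k⁻¹ * g ∈ normalizer (B : Set G) := by
        have h3 : cj (k * s) B = cj g B := hbS
        rw [← cj_cj, cj_eq_iff.2 (le_normalizer hs)] at h3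
        rw [← cj_eq_iff, ← cj_cj, ← h3, cj_cj, inv_mul_cancel, cj_one]
      have hkC := (hKx k hk).1
      have h4 : ρ (k⁻¹ * g) = ρ g := by
        rw [hρm _ (inv_mem hkC) g hg, Re.inv hkC, (hρk k hkC).2 (hKx k hk).2, inv_one, one_mul]
      have h5 := (mem_normalizer_iff.1 (h.NB h2) v).1 hv
      refine ⟨_, h5, ?_⟩
      rw [hact _ (mul_mem (inv_mem hkC) hg) v (hVW hv), h4]
    · -- lin
      rintro _ ⟨v, hv, rfl⟩ hv1 x hx _ ⟨u, hu, rfl⟩
      obtain ⟨g, hg, rfl⟩ := hρs x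
      have hvZ := hlam1 v hv hv1
      rw [← hcm hg (hVW hv)] at hx
      rw [← hcm hg (hVW hu)]
      exact h.lin (hcen hg) hv hvZ hx u hu
    · -- gen
      intro N hN
      let E : Subgroup G :=
        { carrier := {w | w ∈ ws V Z ∧ π w ∈ N}
          one_mem' := ⟨one_mem _, by
            have e : π 1 = 1 := π_one Re
            rw [e]; exact one_mem _⟩
          mul_mem' := by
            rintro a b ⟨ha, ha'⟩ ⟨hb, hb'⟩
            exact ⟨mul_mem ha hb, by rw [hπm a ha b hb]; exact mul_mem ha' hb'⟩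
          inv_mem' := by
            rintro a ⟨ha, ha'⟩
            refine ⟨inv_mem ha, ?_⟩
            have e : π a⁻¹ = (π a)⁻¹ := π_inv Re ha
            rw [e]; exact inv_mem ha' }
      have hE : ws V Z ≤ E := by
        refine ws_le fun L hL hZL => ?_
        obtain ⟨c, hc, rfl⟩ := h.exists_cent_line hL hZL
        intro w hw
        refine ⟨le_ws hL hZL hw, ?_⟩
        have hw' := mem_cj.1 hw
        have e : c * (c⁻¹ * w * c) * c⁻¹ = w := by group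
        have h1 := hact c hc _ (hVW hw')
        rw [e] at h1
        rw [h1]
        exact hN _ _ ⟨_, hw', rfl⟩
      rw [eq_top_iff]
      intro m _
      obtain ⟨w, hw, rfl⟩ := hπs m
      exact (hE hw).2
    · -- le
      rintro _ ⟨v, hv, rfl⟩
      exact ⟨v, h.V_le_IV hv, rfl⟩
    · -- uu
      rintro _ ⟨u, hu, rfl⟩ huV _ ⟨v, hv, rfl⟩
      have huV' : u ∉ V := fun e => huV ⟨u, e, rfl⟩
      obtain ⟨c, -, hcV, hcu⟩ := h.F2 hf hO hu huV' hv
      have hcC : c ∈ centralizer (Z : Set G) := centralizer_le h.ZV hcV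
      refine ⟨ρ c, ?_⟩
      rw [← hact c hcC u (h.IV_le_ws hu)]
      have e : c * u * c⁻¹ = v * u := by rw [← hcu]; group
      rw [e, hπm v (hVW hv) u (h.IV_le_ws hu), mul_comm]
    · -- kh
      rintro φ ⟨k, hk, hk'⟩ x
      obtain ⟨g, hg, rfl⟩ := hρs x
      refine ⟨φ.comp (MulDistribMulAction.toMonoidHom M (ρ g)), ⟨g⁻¹ * k * g, mul_mem (mul_mem (inv_mem hg) hk) hg,
        fun w hw => ?_⟩, fun m => rfl⟩
      have h1 := hk' (g * w * g⁻¹) ((mem_normalizer_iff.1 (hWn (hCn hg)) w).1 hw)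
      have h2 : ζ (φ (π (g * w * g⁻¹))) ∈ Z := (hran _).2 ⟨_, rfl⟩
      have h3 := mem_centralizer_iff.1 (inv_mem hg) _ h2
      calc g⁻¹ * k * g * w * (g⁻¹ * k * g)⁻¹ * w⁻¹
          = g⁻¹ * (k * (g * w * g⁻¹) * k⁻¹ * (g * w * g⁻¹)⁻¹) * g := by group
        _ = ζ (φ (π (g * w * g⁻¹))) := by rw [h1, ← h3, inv_mul_cancel_right]
        _ = ζ ((φ.comp (MulDistribMulAction.toMonoidHom M (ρ g))) (π w)) := by
            rw [hact g hg w hw]; rfl
    · -- f1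
      rintro _ ⟨v, hv, rfl⟩ hv1
      have hvZ := hlam1 v hv hv1
      obtain ⟨z, hz, hz1⟩ := h.pt_ne_bot h.isCj_self
      obtain ⟨k, hk, -, hkv⟩ := h.K_act hf hv hvZ hz
      obtain ⟨φ, hφ, hφk⟩ := hexK k hk
      refine ⟨φ, hφ, fun e => hz1 ?_⟩
      rw [← hkv, hφk v (hVW hv), e, map_one]
    · -- ti
      rintro φ ⟨k, hk, hk'⟩ _ ⟨v, hv, rfl⟩ hv1 hφ _ ⟨u, hu, rfl⟩
      have hvZ := hlam1 v hv hv1
      have h1 := hk' v (hVW hv)
      rw [hφ, map_one, mul_inv_eq_one, mul_inv_eq_iff_eq_mul] at h1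
      have h2 := h.mem_centralizer_of_fix (hcen hk) hv hvZ h1
      apply hinj
      rw [← hk' u (hVW hu), map_one, mul_inv_eq_one, mul_inv_eq_iff_eq_mul]
      exact (mem_centralizer_iff.1 h2 u hu).symm
  refine ⟨H, M, K, iH, iM, iA, iK, ρ, π, ζ, T, lam, U, Kh, ?_⟩
  refine { re := Re, pl := h.ZV, mlam := fun m => Iff.rfl, mU := ?_, cov := ?_, flag := hflag, sy := hS,
           mT := fun t => Iff.rfl, cen := ?_, inj := hinj, ran := hran, kh := fun φ hφ => hφ,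
           kh' := ?_, line := ?_, tr := ?_ }
  · -- mU
    intro m
    constructor
    · rintro ⟨u, hu, rfl⟩
      exact ⟨u, h.IV_le_ws hu, fun y hy => IV_le y.isCj hy hu, rfl⟩
    · rintro ⟨u, -, hu', rfl⟩
      refine ⟨u, ?_, rfl⟩
      rw [IV, Subgroup.mem_sInf]
      rintro _ ⟨Y, hY, hYV, rfl⟩
      exact hu' (Pt.mk hY) hYV
  · -- cov
    intro c hc
    obtain ⟨g, hg, rfl⟩ := hρs c
    obtain ⟨v, hv, hvZ⟩ := h.exists_out
    have h1 : g * v * g⁻¹ * v⁻¹ ∈ Z := (hcm hg (hVW hv)).2 (hc _ ⟨v, hv, rfl⟩)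
    obtain ⟨k, hk, -, hkv⟩ := h.K_act hf hv hvZ (Z.inv_mem h1)
    have hkC := (hKx k hk).1
    have h2 : k * g * v = v * (k * g) := by
      have e1 : g * v * g⁻¹ = (g * v * g⁻¹ * v⁻¹) * v := by group
      have e2 : k * v * k⁻¹ = (g * v * g⁻¹ * v⁻¹)⁻¹ * v := by rw [← hkv]; group
      have e3 := hcen hkC _ h1
      rw [← mul_inv_eq_iff_eq_mul]
      calc k * g * v * (k * g)⁻¹ = k * (g * v * g⁻¹) * k⁻¹ := by group
        _ = k * (g * v * g⁻¹ * v⁻¹) * v * k⁻¹ := by rw [e1]; group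
        _ = (g * v * g⁻¹ * v⁻¹) * (k * v * k⁻¹) := by rw [e3]; group
        _ = v := by rw [e2]; group
    refine ⟨k * g, h.mem_centralizer_of_fix (hcen (mul_mem hkC hg)) hv hvZ h2, ?_⟩
    rw [hρm k hkC g hg, (hρk k hkC).2 (hKx k hk).2, one_mul]
  · -- cen
    intro w hw hws
    exact h.omega w (h.ws_le_B hw) (h.ws_sq w hw) hws
  · -- kh'
    intro k hk hk'
    exact exists_khat Re hran' D hinj h.Z_le_ws hk hk'
  · -- line
    intro x hx hxp v hv
    exact line_base h x.isCj hx (fun e => hxp (Pt.ext e)) hv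
  · -- tr
    intro x y hx hxp hy hyp
    obtain ⟨k, hk, -, hk'⟩ := h.K_trans hf y.isCj hy x.isCj hx (fun e => hyp (Pt.ext e)) (fun e => hxp (Pt.ext e))
    exact ⟨k, (hKx k hk).1, (hKx k hk).2, Pt.ext hk'⟩

/-- every flag of `PtGeom` is conjugate to the base flag -/
theorem exists_smul_flag {x : Pt Z} {l : Pt V} (hxl : inc x l) : ∃ g : G, x = g • Pt.base Z ∧ l = g • Pt.base V := by
  obtain ⟨g, h1, h2⟩ := PB.Geom.exists_conj_flag h x.isCj l.isCj hxl
  exact ⟨g, Pt.ext h1, Pt.ext h2⟩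

end

end Cfsg.Agent.Omega.NO3S.FarB

end

section


/-!
# NO-3S, `q ≥ 4`: (F1) from the K-input, over the `(R, B)`-frame (copy of `FarQ/FlagK.lean`)

* `flagK_of` : `FlagK` from `PB`;
* `hf_of_kin` : (F1).
-/

set_option autoImplicit false
set_option linter.unusedSectionVars false

namespace Cfsg.Agent.Omega.NO3S.FarB

open Subgroup Cfsg Cfsg.Agent.ZN Cfsg.Agent.MinSimple.VModule Cfsg.Agent.Omega.NOThree.Pts
open Cfsg.Agent.Omega.NO3S.FarQ (FlagK NoOv PSall KNO KPS Img Real exists_mod exists_group)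
open Cfsg.Agent.Omega.NO3S.FarQ.Glue Cfsg.Agent.Omega.NO3S.PT Cfsg.Agent.Omega.NO3S.PtGeom
open scoped Pointwise

universe u

variable {G : Type u} [Group G]

section

variable [Finite G] {S : Sylow 2 G} {B P V Z : Subgroup G} (h : PB S B P V Z)
include h

/-- the geometry without (F1): conjugation by `C_G(Z)` -/
theorem norm_ws {g w : G} (hg : g ∈ centralizer (Z : Set G)) (hw : w ∈ ws V Z) : g * w * g⁻¹ ∈ ws V Z :=
  (mem_normalizer_iff.1 (normalizer_le_ws V Z (centralizer_le_normalizer _ hg)) w).1 hw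

theorem real_one {H M : Type*} [Group H] [CommGroup M] [MulDistribMulAction H M] {ρ : G → H} {π : G → M}
    (r : Real V Z ρ π) : π 1 = 1 := (r.kerπ 1 (one_mem _)).2 (one_mem _)

theorem real_inv {H M : Type*} [Group H] [CommGroup M] [MulDistribMulAction H M] {ρ : G → H} {π : G → M}
    (r : Real V Z ρ π) {v : G} (hv : v ∈ ws V Z) : π v⁻¹ = (π v)⁻¹ := by
  have h4 := r.mulπ v hv v⁻¹ (inv_mem hv)
  rw [mul_inv_cancel, real_one h r] at h4
  exact (inv_eq_of_mul_eq_one_right h4.symm).symm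

theorem real_comm {H M : Type*} [Group H] [CommGroup M] [MulDistribMulAction H M] {ρ : G → H} {π : G → M}
    (r : Real V Z ρ π) {g w : G} (hg : g ∈ centralizer (Z : Set G)) (hw : w ∈ ws V Z) :
    g * w * g⁻¹ * w⁻¹ ∈ Z ↔ ρ g • π w = π w := by
  have h1 := norm_ws h hg hw
  rw [← r.kerπ _ (mul_mem h1 (inv_mem hw)), r.mulπ _ h1 _ (inv_mem hw), r.act g hg w hw, real_inv h r hw,
    mul_inv_eq_one]

theorem real_ρone {H M : Type*} [Group H] [CommGroup M] [MulDistribMulAction H M] {ρ : G → H} {π : G → M}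
    (r : Real V Z ρ π) : ρ 1 = 1 := (r.kerρ 1 (one_mem _)).2 (one_mem _)

theorem real_ρinv {H M : Type*} [Group H] [CommGroup M] [MulDistribMulAction H M] {ρ : G → H} {π : G → M}
    (r : Real V Z ρ π) {g : G} (hg : g ∈ centralizer (Z : Set G)) : ρ g⁻¹ = (ρ g)⁻¹ := by
  have h4 := r.mulρ g hg g⁻¹ (inv_mem hg)
  rw [mul_inv_cancel, real_ρone h r] at h4
  exact (inv_eq_of_mul_eq_one_right h4.symm).symm

/-- **`FlagK` from `PB`.** -/
theorem flagK_of {H M : Type*} [Group H] [CommGroup M] [MulDistribMulAction H M] {ρ : G → H} {π : G → M}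
    (r : Real V Z ρ π)
    (hq : 4 ≤ Nat.card Z) {T : Subgroup H} (hT : ∀ x, x ∈ T ↔ ∃ s ∈ B, ρ s = x)
    {lam : Subgroup M} (hlam : ∀ m, m ∈ lam ↔ ∃ v ∈ V, π v = m) : FlagK T lam := by
  have hVW : V ≤ ws V Z := h.V_le_ws h.ZV
  have hS : B ≤ centralizer (Z : Set G) := h.B_le
  have hcen : ∀ {k}, k ∈ centralizer (Z : Set G) → ∀ z ∈ Z, k * z = z * k := fun hk z hz =>
    (mem_centralizer_iff.1 hk z hz).symm
  have hcm : ∀ {g w : G}, g ∈ centralizer (Z : Set G) → w ∈ ws V Z →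
      (g * w * g⁻¹ * w⁻¹ ∈ Z ↔ ρ g • π w = π w) := fun hg hw => real_comm h r hg hw
  have hlam1 : ∀ v ∈ V, π v ≠ 1 → v ∉ Z := fun v hv hv1 hvZ => hv1 ((r.kerπ v (hVW hv)).2 hvZ)
  have hKx : ∀ k ∈ kx V Z, k ∈ centralizer (Z : Set G) := fun k hk => kx_le_cent hk
  have hcard : Nat.card lam = Nat.card Z := by
    let φ : V →* M := MonoidHom.mk' (fun a => π a) (fun a b => r.mulπ a (hVW a.2) b (hVW b.2))
    have h1 := Subgroup.card_mul_index φ.ker
    rw [Subgroup.index_ker] at h1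
    have h2 : φ.range = lam := by
      ext m
      rw [hlam]
      constructor
      · rintro ⟨a, rfl⟩
        exact ⟨a, a.2, rfl⟩
      · rintro ⟨a, ha, rfl⟩
        exact ⟨⟨a, ha⟩, rfl⟩
    have h3 : Nat.card φ.ker = Nat.card Z := by
      refine Nat.card_congr ⟨fun x => ⟨x, ?_⟩, fun x => ⟨⟨x, h.ZV x.2⟩, ?_⟩, fun x => rfl, fun x => rfl⟩
      · exact (r.kerπ _ (hVW x.1.2)).1 x.2
      · exact (r.kerπ _ (hVW (h.ZV x.2))).2 x.2
    rw [h2, h3, h.card] at h1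
    exact Nat.eq_of_mul_eq_mul_left Nat.card_pos h1
  refine ⟨?_, ?_, ?_, ?_, ?_, ?_, hcard.symm ▸ hq, ?_, ?_, ?_, ?_⟩
  · exact Finite.of_surjective ρ fun x => by
      obtain ⟨g, -, hg⟩ := r.surjρ x
      exact ⟨g, hg⟩
  · exact Finite.of_surjective π fun x => by
      obtain ⟨g, -, hg⟩ := r.surjπ x
      exact ⟨g, hg⟩
  · intro m
    obtain ⟨w, hw, rfl⟩ := r.surjπ m
    rw [← r.mulπ w hw w hw, h.ws_sq w hw]
    exact real_one h r
  · intro x hx
    obtain ⟨g, hg, rfl⟩ := r.surjρ x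
    exact (r.kerρ g hg).2 (mem_kx.2 ⟨hcen hg, fun w hw => (hcm hg hw).2 (hx _)⟩)
  · rintro ⟨x, hx⟩
    obtain ⟨s, hs, rfl⟩ := (hT x).1 hx
    obtain ⟨k, hk⟩ := h.isPGroup_B ⟨s, hs⟩
    have hk' : s ^ 2 ^ k = 1 := congrArg Subtype.val hk
    refine ⟨k, Subtype.ext ?_⟩
    show ρ s ^ 2 ^ k = 1
    have hpow : ∀ j : ℕ, ρ (s ^ j) = ρ s ^ j := by
      intro j
      induction j with
      | zero => rw [pow_zero, pow_zero, real_ρone h r]
      | succ j ih => rw [pow_succ, pow_succ, r.mulρ _ (pow_mem (hS hs) j) _ (hS hs), ih]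
    rw [← hpow, hk', real_ρone h r]
  · have : Fact (Nat.Prime 2) := ⟨Nat.prime_two⟩
    let f : centralizer (Z : Set G) →* H := MonoidHom.mk' (fun a => ρ a) (fun a b => r.mulρ a a.2 b b.2)
    have hfs : Function.Surjective f := fun x => by
      obtain ⟨g, hg, rfl⟩ := r.surjρ x
      exact ⟨⟨g, hg⟩, rfl⟩
    obtain ⟨TB, hTB⟩ := h.exists_syl hS le_rfl
    let T' : Sylow 2 H := TB.mapSurjective hfs
    have hT' : (T' : Subgroup H) = T := by
      ext x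
      have hx : x ∈ (T' : Subgroup H) ↔ x ∈ (TB : Subgroup (centralizer (Z : Set G))).map f := Iff.rfl
      rw [hx, hTB, hT]
      constructor
      · rintro ⟨g, hg, rfl⟩
        exact ⟨g, mem_subgroupOf.1 hg, rfl⟩
      · rintro ⟨g, hg, rfl⟩
        exact ⟨⟨g, hS hg⟩, mem_subgroupOf.2 hg, rfl⟩
    have hfin : Finite H := Finite.of_surjective f hfs
    rw [← hT']
    exact T'.not_dvd_index
  · intro x hx a ha
    obtain ⟨s, hs, rfl⟩ := (hT x).1 hx
    obtain ⟨v, hv, rfl⟩ := (hlam a).1 ha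
    exact (hcm (hS hs) (hVW hv)).1 (h.act s hs v hv)
  · intro x hx a ha
    obtain ⟨v, hv, rfl⟩ := (hlam a).1 ha
    obtain ⟨g, hg, rfl⟩ := r.surjρ x
    have hSK : B ≤ normalizer ((kx V Z : Subgroup G) : Set G) :=
      h.B_le_N.trans (normalizer_le_kx V Z)
    have h1 : cj g B ≤ kx V Z ⊔ B := by
      intro y hy
      rw [mem_cj] at hy
      have hyC : y ∈ centralizer (Z : Set G) := by
        have := mul_mem (mul_mem hg (hS hy)) (inv_mem hg)
        have e : g * (g⁻¹ * y * g) * g⁻¹ = y := by group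
        rwa [e] at this
      have h2 : ρ g * ρ (g⁻¹ * y * g) * (ρ g)⁻¹ ∈ T := (mem_normalizer_iff.1 hx _).1 ((hT _).2 ⟨_, hy, rfl⟩)
      have h3 : ρ g * ρ (g⁻¹ * y * g) * (ρ g)⁻¹ = ρ y := by
        rw [← r.mulρ g hg _ (hS hy), ← real_ρinv h r hg,
          ← r.mulρ _ (mul_mem hg (hS hy)) _ (inv_mem hg)]
        congr 1; group
      rw [h3] at h2
      obtain ⟨s, hs, hs'⟩ := (hT _).1 h2
      have h5 : y * s⁻¹ ∈ kx V Z := by
        rw [← r.kerρ _ (mul_mem hyC (inv_mem (hS hs))), r.mulρ y hyC s⁻¹ (inv_mem (hS hs)),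
          real_ρinv h r (hS hs), hs', mul_inv_cancel]
      have h8 : y = y * s⁻¹ * s := by group
      rw [h8]
      exact mul_mem (mem_sup_left h5) (mem_sup_right hs)
    obtain ⟨b, hb, hbS⟩ := h.exists_conj (H := kx V Z ⊔ B) le_sup_right
      (sup_le (fun x hx => hKx x hx) hS) h1
    rw [← SetLike.mem_coe, coe_mul_of_right_le_normalizer_left _ _ hSK] at hb
    obtain ⟨k, hk, s, hs, rfl⟩ := hb
    have h2 : k⁻¹ * g ∈ normalizer (B : Set G) := by
      have h3 : cj (k * s) B = cj g B := hbS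
      rw [← cj_cj, cj_eq_iff.2 (le_normalizer hs)] at h3
      rw [← cj_eq_iff, ← cj_cj, ← h3, cj_cj, inv_mul_cancel, cj_one]
    have hkC := hKx k hk
    have h4 : ρ (k⁻¹ * g) = ρ g := by
      rw [r.mulρ _ (inv_mem hkC) g hg, real_ρinv h r hkC, (r.kerρ k hkC).2 hk, inv_one, one_mul]
    have h5 := (mem_normalizer_iff.1 (h.NB h2) v).1 hv
    refine (hlam _).2 ⟨_, h5, ?_⟩
    rw [r.act _ (mul_mem (inv_mem hkC) hg) v (hVW hv), h4]
  · intro a ha hv1 x hx b hb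
    obtain ⟨v, hv, rfl⟩ := (hlam a).1 ha
    obtain ⟨u, hu, rfl⟩ := (hlam b).1 hb
    obtain ⟨g, hg, rfl⟩ := r.surjρ x
    have hvZ := hlam1 v hv hv1
    rw [← hcm hg (hVW hv)] at hx
    rw [← hcm hg (hVW hu)]
    exact h.lin (hcen hg) hv hvZ hx u hu
  · intro N hN
    let E : Subgroup G :=
      { carrier := {w | w ∈ ws V Z ∧ π w ∈ N}
        one_mem' := ⟨one_mem _, by
          rw [real_one h r]; exact one_mem _⟩
        mul_mem' := by
          rintro a b ⟨ha, ha'⟩ ⟨hb, hb'⟩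
          exact ⟨mul_mem ha hb, by rw [r.mulπ a ha b hb]; exact mul_mem ha' hb'⟩
        inv_mem' := by
          rintro a ⟨ha, ha'⟩
          refine ⟨inv_mem ha, ?_⟩
          rw [real_inv h r ha]; exact inv_mem ha' }
    have hE : ws V Z ≤ E := by
      refine ws_le fun L hL hZL => ?_
      obtain ⟨c, hc, rfl⟩ := h.exists_cent_line hL hZL
      intro w hw
      refine ⟨le_ws hL hZL hw, ?_⟩
      have hw' := mem_cj.1 hw
      have e : c * (c⁻¹ * w * c) * c⁻¹ = w := by group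
      have h1 := r.act c hc _ (hVW hw')
      rw [e] at h1
      rw [h1]
      exact hN _ _ ((hlam _).2 ⟨_, hw', rfl⟩)
    rw [eq_top_iff]
    intro m _
    obtain ⟨w, hw, rfl⟩ := r.surjπ m
    exact (hE hw).2

/-- a realisation exists -/
theorem exists_real : ∃ (H M : Type u) (_ : Group H) (_ : CommGroup M) (_ : MulDistribMulAction H M)
    (ρ : G → H) (π : G → M), Real V Z ρ π := by
  have hWn := normalizer_le_ws V Z
  have hCn : centralizer (Z : Set G) ≤ normalizer (Z : Set G) := centralizer_le_normalizer _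
  obtain ⟨H, M, iH, iM, iA, ρ, π, hρm, hρs, hρk, hπm, hπs, hπk, hact⟩ := exists_mod (C := centralizer (Z : Set G))
    (W := ws V Z) (R := Z) (fun c hc w hw => (mem_normalizer_iff.1 (hWn (hCn hc)) w).1 hw)
    (fun c hc w hw => (mem_normalizer_iff.1 (hCn hc) w).1 hw)
    (fun a ha b hb => (mem_centralizer_iff.1 (h.Wcomm ha) b hb).symm)
  refine ⟨H, M, iH, iM, iA, ρ, π, hρm, hρs, fun a ha => ?_, hπm, hπs, hπk, hact⟩
  rw [hρk a ha, mem_kx]
  exact ⟨fun h1 => ⟨fun x hx => (mem_centralizer_iff.1 ha x hx).symm, h1⟩, fun h1 => h1.2⟩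

/-- **(F1) from the K-input.** -/
theorem hf_of_kin (hq : 4 ≤ Nat.card Z)
    {n : ℕ} (hn : 1 ≤ n) {x y : Pt Z}
    (hc : Crit (inc (Z := Z) (V := V)) (fun x : Pt Z => ws V x.sg) n x y)
    (hNO : KNO.{u} (fun H _ => Img (centralizer (Z : Set G)) H))
    (hPS : KPS.{u} (fun H _ => Img (centralizer (Z : Set G)) H)) : ¬ kx V Z ≤ centralizer (V : Set G) := by
  obtain ⟨H, M, iH, iM, iA, ρ, π, r⟩ := exists_real h
  let T : Subgroup H := FOne.tt h r
  have hT : ∀ x, x ∈ T ↔ ∃ s ∈ B, ρ s = x := fun x => FarQ.FOne.mem_img r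
  have hWm : ∀ v ∈ V, v ∈ ws V Z := fun v hv => h.V_le_ws h.ZV hv
  let lam : Subgroup M := (V.subgroupOf (ws V Z)).map (FarQ.FOne.ph r)
  have hlam : ∀ m, m ∈ lam ↔ ∃ v ∈ V, π v = m := fun m => FOne.ph_V_mem h r
  have hK := flagK_of h r hq hT hlam
  obtain ⟨K, iK, ζ, hinj, hran⟩ := exists_group (Z := Z) fun a ha b hb => h.Vcomm (h.ZV ha) (h.ZV hb)
  have hsq : ∀ r : K, r * r = 1 := by
    intro r
    apply hinj
    rw [map_mul, map_one]
    exact h.Vsq _ (h.ZV ((hran _).2 ⟨r, rfl⟩))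
  have hcard : Nat.card K = Nat.card lam := by
    have h1 : Nat.card K = Nat.card Z := by
      refine Nat.card_congr ⟨fun x => ⟨ζ x, (hran _).2 ⟨x, rfl⟩⟩, fun x => ((hran _).1 x.2).choose,
        fun x => ?_, fun x => ?_⟩
      · exact hinj ((hran (ζ x)).1 ((hran _).2 ⟨x, rfl⟩)).choose_spec
      · exact Subtype.ext ((hran _).1 x.2).choose_spec
    have h2 : Nat.card lam = Nat.card Z := by
      let φ : V →* M := MonoidHom.mk' (fun a => π a) (fun a b => r.mulπ a (hWm a a.2) b (hWm b b.2))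
      have h1 := Subgroup.card_mul_index φ.ker
      rw [Subgroup.index_ker] at h1
      have h2 : φ.range = lam := by
        ext m
        rw [hlam]
        constructor
        · rintro ⟨a, rfl⟩
          exact ⟨a, a.2, rfl⟩
        · rintro ⟨a, ha, rfl⟩
          exact ⟨⟨a, ha⟩, rfl⟩
      have h3 : Nat.card φ.ker = Nat.card Z := by
        refine Nat.card_congr ⟨fun x => ⟨x, ?_⟩, fun x => ⟨⟨x, h.ZV x.2⟩, ?_⟩, fun x => rfl, fun x => rfl⟩
        · exact (r.kerπ _ (hWm _ x.1.2)).1 x.2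
        · exact (r.kerπ _ (hWm _ (h.ZV x.2))).2 x.2
      rw [h2, h3, h.card] at h1
      exact Nat.eq_of_mul_eq_mul_left Nat.card_pos h1
    rw [h1, h2]
  have hI : Img (centralizer (Z : Set G)) H := FarQ.img_of_real r
  obtain ⟨Pi, hPi⟩ := hPS H M K T lam hI hK hsq hcard
  exact FOne.hf_of h r hn hc hT hlam (hNO H M T lam hI hK) (FarQ.FOne.PSf.of_psq hPi.toPSq hPi.pf hPi.cent)

end

end Cfsg.Agent.Omega.NO3S.FarB

end

end
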